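import Cfsg.Agent.Lib.Spor.MonsterType.Short
import Cfsg.Agent.Lib.Spor.Fi22Model.FStar

/-!
# The centralizer of a non-central involution of `Q` is of Baby Monster type
-/

set_option autoImplicit false
set_option maxHeartbeats 1000000

namespace CfsgLib.Spor.MonsterType

open Subgroup CfsgLib.Spor.Leech
open Cfsg (leechLattice Co0 sqNorm GolayPt dotInt)
open MulAction (stabilizer)
open scoped commutatorElement

theorem sqNorm_vecU : sqNorm Cfsg.Spor.vecU = 32 := by decide +kernel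

/-- The stabiliser of a vector as the Conway group of the standard short vector. -/
def toCoTwo {h : Co0} {v : leechLattice} (hh : h • v = Cfsg.Spor.leechU) :
    stabilizer Co0 v ≃* Cfsg.Spor.Co2 where
  toFun w := ⟨((h * (w : Co0) * h⁻¹ : Co0) : Equiv.Perm leechLattice), (h * (w : Co0) * h⁻¹).2, by
    show (h * (w : Co0) * h⁻¹) • Cfsg.Spor.leechU = Cfsg.Spor.leechU
    rw [← hh, ← mul_smul, inv_mul_cancel_right, mul_smul, show (w : Co0) • v = v from w.2]⟩
  invFun k := ⟨h⁻¹ * ⟨(k : Equiv.Perm leechLattice), k.2.1⟩ * h, by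
    show (h⁻¹ * ⟨(k : Equiv.Perm leechLattice), k.2.1⟩ * h : Co0) • v = v
    rw [mul_smul, hh, mul_smul, show (⟨(k : Equiv.Perm leechLattice), k.2.1⟩ : Co0) • Cfsg.Spor.leechU =
      Cfsg.Spor.leechU from k.2.2, ← hh, inv_smul_smul]⟩
  left_inv w := Subtype.ext (by
    show h⁻¹ * (h * (w : Co0) * h⁻¹) * h = w
    group)
  right_inv k := Subtype.ext (by
    show ((h * (h⁻¹ * ⟨(k : Equiv.Perm leechLattice), k.2.1⟩ * h) * h⁻¹ : Co0) : Equiv.Perm leechLattice) = k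
    rw [show h * (h⁻¹ * ⟨(k : Equiv.Perm leechLattice), k.2.1⟩ * h) * h⁻¹ =
      (⟨(k : Equiv.Perm leechLattice), k.2.1⟩ : Co0) by group])
  map_mul' a b := Subtype.ext (by
    show ((h * ((a : Co0) * (b : Co0)) * h⁻¹ : Co0) : Equiv.Perm leechLattice) =
      ((h * (a : Co0) * h⁻¹ : Co0) : Equiv.Perm leechLattice) * ((h * (b : Co0) * h⁻¹ : Co0) : Equiv.Perm leechLattice)
    simp [mul_assoc])

variable {G : Type*} [Group G] [Finite G] {z : G} {Q : Subgroup G} {R : leechLattice → G → Prop}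
  {π : ↥(centralizer ({z} : Set G)) →* Cfsg.Spor.Co1}

theorem Data.baby (D : Data z Q R π) (hw : ∃ g : G, g * z * g⁻¹ ∈ Q ∧ g * z * g⁻¹ ≠ z) {t : G} (htQ : t ∈ Q)
    (ht2 : orderOf t = 2) (htz : ¬ IsConj z t)
    [hn : ((zpowers t).subgroupOf (centralizer ({t} : Set G))).Normal] :
    Cfsg.IsOfBabyMonsterType (↥(centralizer ({t} : Set G)) ⧸ (zpowers t).subgroupOf (centralizer ({t} : Set G))) := by
  classical
  haveI : Fact (Nat.Prime 2) := ⟨Nat.prime_two⟩
  have htt : t * t = 1 := by rw [← pow_two, ← ht2, pow_orderOf_eq_one]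
  have ht1 : t ≠ 1 := fun e => by rw [e, orderOf_one] at ht2; omega
  have htne : t ≠ z := fun e => htz (e ▸ IsConj.refl _)
  obtain ⟨v, hv, hn'⟩ := D.norm_cases htQ ht1 htne htt
  have h32 : sqNorm (v : GolayPt → ℤ) = 32 := hn'.resolve_right fun h => htz (D.conj_of_long hw hv h).1
  obtain ⟨g, hgQ, hgne, htg⟩ := D.exists_meet hw hv h32
  have hgZ : g * z * g⁻¹ ∉ (center ↥Q).map Q.subtype := fun h => by
    rcases (D.core.center_iff _).1 h with e | e
    · exact D.z_ne (by simpa using e)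
    · exact hgne e
  have hztne : ∀ k : G, k * z * k⁻¹ ≠ z * t := by
    intro k e
    obtain ⟨y, hy, hyt⟩ := D.move htQ ht1 htne
    refine htz (isConj_iff.2 ⟨y⁻¹ * k, ?_⟩)
    calc y⁻¹ * k * z * (y⁻¹ * k)⁻¹ = y⁻¹ * (k * z * k⁻¹) * y := by group
      _ = y⁻¹ * (y * t * y⁻¹) * y := by rw [e, hyt, D.half.cz t htQ]
      _ = t := by group
  obtain ⟨hlarge, x, hx, hxs⟩ := LargeQ.large_in_involution_quotient D.core 12 (by norm_num) D.card g hgQ hgZ t ht2
    htg htz (Q ⊓ centralizer ({t} : Set G)) rfl (fun c hc => D.cent_section hv h32 htt c hc)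
  set Ct := centralizer ({t} : Set G) with hCt
  set N := (zpowers t).subgroupOf Ct with hN
  set pr := QuotientGroup.mk' N with hpr
  set Pb := ((Q ⊓ Ct).subgroupOf Ct).map pr with hPb
  have hzt : z * t = t * z := (D.half.cz t htQ).symm
  have hzC : z ∈ Ct := mem_centralizer_singleton_iff.2 hzt
  set zb : ↥Ct ⧸ N := pr ⟨z, hzC⟩ with hzb
  have hpow : ∀ a : G, a ∈ zpowers t ↔ a = 1 ∨ a = t := fun a => by
    refine ⟨fun ha => ?_, ?_⟩
    · obtain ⟨i, rfl⟩ := mem_zpowers_iff.1 ha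
      rcases Int.even_or_odd i with ⟨k, rfl⟩ | ⟨k, rfl⟩
      · left; simp [← two_mul, zpow_mul, htt, pow_two]
      · right; simp [zpow_add, zpow_mul, htt, pow_two]
    · rintro (rfl | rfl)
      exacts [one_mem _, mem_zpowers _]
  have hprone : ∀ m : ↥Ct, pr m = 1 ↔ ((m : G) = 1 ∨ (m : G) = t) := fun m =>
    (QuotientGroup.eq_one_iff m).trans (mem_subgroupOf.trans (hpow _))
  -- the centralizer of the image of `z`
  let D0 := pairCent z t
  let f : ↥D0 →* ↥(centralizer ({zb} : Set (↥Ct ⧸ N))) :=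
    (pr.comp (Subgroup.inclusion (inf_le_right : D0 ≤ Ct))).codRestrict _ fun c =>
      mem_centralizer_singleton_iff.2 (by
        show pr ⟨c, c.2.2⟩ * pr ⟨z, hzC⟩ = pr ⟨z, hzC⟩ * pr ⟨c, c.2.2⟩
        rw [← map_mul, ← map_mul]
        exact congrArg pr (Subtype.ext (mem_centralizer_singleton_iff.1 c.2.1)))
  have hfval : ∀ c : ↥D0, (f c : ↥Ct ⧸ N) = pr ⟨c, c.2.2⟩ := fun c => rfl
  have hf : Function.Surjective f := by
    rintro ⟨m, hm⟩
    obtain ⟨c, rfl⟩ := QuotientGroup.mk'_surjective _ m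
    have e := mem_centralizer_singleton_iff.1 hm
    have h1 : pr (c * ⟨z, hzC⟩ * c⁻¹ * (⟨z, hzC⟩ : ↥Ct)⁻¹) = 1 := by
      rw [map_mul, map_mul, map_mul, map_inv, map_inv]
      show pr c * zb * (pr c)⁻¹ * zb⁻¹ = 1
      rw [e, mul_inv_cancel_right, mul_inv_cancel]
    have hcz : (c : G) * z = z * c := by
      rcases (hprone _).1 h1 with e1 | e1
      · exact mul_inv_eq_iff_eq_mul.1 (mul_inv_eq_one.1 e1)
      · exact absurd ((mul_inv_eq_iff_eq_mul.1 e1).trans hzt.symm) (hztne c)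
    exact ⟨⟨c, mem_centralizer_singleton_iff.2 hcz, c.2⟩, rfl⟩
  have hfker : ∀ c : ↥D0, f c = 1 ↔ ((c : G) = 1 ∨ (c : G) = t) := fun c => by
    rw [Subtype.ext_iff, hfval, OneMemClass.coe_one, hprone]
  let R0 : Subgroup ↥D0 := Q.subgroupOf D0
  haveI hR0n : R0.Normal := ⟨fun a ha d => mem_subgroupOf.2
    (D.half.norm d (mem_centralizer_singleton_iff.1 d.2.1) a (mem_subgroupOf.1 ha))⟩
  set Rb := R0.map f with hRb
  haveI hRbn : Rb.Normal := hR0n.map f hf
  have hPD : Q ⊓ Ct ≤ D0 := fun a ha => ⟨D.core.le ha.1, ha.2⟩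
  have hRP : Rb.map (centralizer ({zb} : Set (↥Ct ⧸ N))).subtype = Pb := by
    ext m
    constructor
    · rintro ⟨_, ⟨c, hc, rfl⟩, rfl⟩
      exact ⟨⟨c, c.2.2⟩, mem_subgroupOf.2 ⟨mem_subgroupOf.1 hc, c.2.2⟩, rfl⟩
    · rintro ⟨c, hc, rfl⟩
      exact ⟨f ⟨c, hPD hc⟩, ⟨⟨c, hPD hc⟩, (mem_subgroupOf.1 hc).1, rfl⟩, rfl⟩
  obtain ⟨hPext, hPcent, -, -⟩ := hlarge
  have hRext : Cfsg.IsExtraspecial 2 Rb :=
    CfsgLib.Spor.Affine.isExtraspecial_congr ((MulEquiv.subgroupCongr hRP).symm.trans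
      (Rb.equivMapOfInjective _ (centralizer ({zb} : Set (↥Ct ⧸ N))).subtype_injective).symm) hPext
  have hR2 : IsPGroup 2 Rb := hRext.1.1
  have hRC : centralizer (Rb : Set ↥(centralizer ({zb} : Set (↥Ct ⧸ N)))) ≤ Rb := by
    intro c hc
    have h1 : (c : ↥Ct ⧸ N) ∈ centralizer (Pb : Set (↥Ct ⧸ N)) := by
      rw [← hRP]
      refine mem_centralizer_iff.2 ?_
      rintro _ ⟨r, hr, rfl⟩
      exact congrArg Subtype.val (mem_centralizer_iff.1 hc r hr)
    rw [show (centralizer (Pb : Set (↥Ct ⧸ N))) = _ from hPcent] at h1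
    obtain ⟨r, hr, e⟩ := hRP.symm ▸ (map_subtype_le _ h1 : (c : ↥Ct ⧸ N) ∈ Pb)
    rwa [show c = r from Subtype.ext e.symm]
  -- the stabiliser of the class of `t`
  obtain ⟨α, hαs, hαπ, hαker⟩ := D.exists_stabHom hv h32
  have hFit : Cfsg.generalizedFittingSubgroup ↥(centralizer ({zb} : Set (↥Ct ⧸ N))) = Rb := by
    refine CfsgLib.Spor.Fi22Model.generalizedFitting_eq_of_selfCentralizing Rb hR2 hRC fun S hSn hS2 => ?_
    haveI := hSn
    have hk : IsPGroup 2 f.ker := fun c => ⟨1, Subtype.ext (Subtype.ext (by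
      rcases (hfker c).1 c.2 with e | e <;> simp [pow_two, e, htt]))⟩
    have h2 : IsPGroup 2 (S.comap f) := hS2.comap_of_ker_isPGroup f hk
    haveI : ((S.comap f).map α).Normal := (hSn.comap f).map α hαs
    obtain ⟨k, hk⟩ := (h2.map α).exists_card_eq
    have hbot := normal_two_trivial h32 (N := (S.comap f).map α) hk
    intro s hs
    obtain ⟨c, rfl⟩ := hf s
    have : α c = 1 := by
      have := mem_map_of_mem α (mem_comap.2 hs)
      rwa [hbot, mem_bot] at this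
    exact mem_map_of_mem f (mem_subgroupOf.2 ((hαker c).1 this))
  have hRcard : Nat.card Rb = 2 ^ (2 * 11 + 1) := by
    have h1 := (f.comp R0.subtype).ker.card_mul_index
    rw [index_ker, MonoidHom.range_comp, Subgroup.range_subtype] at h1
    have h2 : Nat.card R0 = 2 ^ 24 := by
      rw [← D.card_P hv h32]
      refine Nat.card_congr ⟨fun a => ⟨(a : ↥D0), a.2, (a : ↥D0).2.2⟩, fun a => ⟨⟨a, hPD a.2⟩, a.2.1⟩,
        fun a => rfl, fun a => rfl⟩
    have h3 : Nat.card (f.comp R0.subtype).ker = 2 := by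
      have hm : ∀ a : ↥(zpowers t), (a : G) ∈ Q ∧ (a : G) ∈ D0 := fun a => by
        rcases (hpow _).1 a.2 with e | e <;> rw [e]
        exacts [⟨one_mem _, one_mem _⟩, ⟨htQ, hPD ⟨htQ, mem_centralizer_singleton_iff.2 rfl⟩⟩]
      have hfw : ∀ a : ↥(f.comp R0.subtype).ker, (((a : R0) : ↥D0) : G) ∈ zpowers t := fun a =>
        (hpow _).2 ((hfker _).1 a.2)
      have hbw : ∀ a : ↥(zpowers t), (⟨⟨a, (hm a).2⟩, mem_subgroupOf.2 (hm a).1⟩ : R0) ∈ (f.comp R0.subtype).ker :=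
        fun a => (hfker _).2 ((hpow _).1 a.2)
      refine (Nat.card_congr (Equiv.mk (fun a => (⟨_, hfw a⟩ : ↥(zpowers t))) (fun a => ⟨_, hbw a⟩)
        (fun a => rfl) (fun a => rfl))).trans ((Nat.card_zpowers t).trans ht2)
    rw [h2, h3] at h1
    change 2 * Nat.card ↥Rb = _ at h1
    have h4 : (2 : ℕ) ^ 24 = 2 * 2 ^ (2 * 11 + 1) := by norm_num
    omega
  have hzb2 : orderOf zb = 2 := orderOf_eq_prime
    (by rw [← map_pow, show (⟨z, hzC⟩ : ↥Ct) ^ 2 = 1 from Subtype.ext (by simpa [pow_two] using D.zz), map_one])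
    fun e => ((hprone _).1 e).elim D.z_ne htne.symm
  -- the identification with the second Conway group
  have hnormU : sqNorm (Cfsg.Spor.leechU : GolayPt → ℤ) = 32 := sqNorm_vecU
  obtain ⟨h, hh⟩ := transitive_norm (x := v) (y := Cfsg.Spor.leechU) (Or.inl h32) (hnormU.trans h32.symm)
  let α2 : ↥D0 →* ↥Cfsg.Spor.Co2 := (toCoTwo hh).toMonoidHom.comp α
  let β : ↥D0 →* ↥(centralizer ({zb} : Set (↥Ct ⧸ N))) ⧸ Rb := (QuotientGroup.mk' Rb).comp f
  have hβs : Function.Surjective β := (QuotientGroup.mk'_surjective Rb).comp hf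
  have hα2s : Function.Surjective α2 := (toCoTwo hh).surjective.comp hαs
  have hker : β.ker = α2.ker := by
    ext c
    rw [MonoidHom.mem_ker, MonoidHom.mem_ker]
    show QuotientGroup.mk' Rb (f c) = 1 ↔ toCoTwo hh (α c) = 1
    rw [MulEquiv.map_eq_one_iff, hαker, QuotientGroup.mk'_apply, QuotientGroup.eq_one_iff]
    constructor
    · rintro ⟨r, hr, e⟩
      have h1 : f (r⁻¹ * c) = 1 := by rw [map_mul, map_inv, e, inv_mul_cancel]
      have h2 : ((r⁻¹ * c : ↥D0) : G) ∈ Q := by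
        rcases (hfker _).1 h1 with e' | e' <;> rw [e']
        exacts [one_mem _, htQ]
      have := Subgroup.mul_mem Q (mem_subgroupOf.1 hr) h2
      rwa [coe_mul, coe_inv, mul_inv_cancel_left] at this
    · exact fun hc => mem_map_of_mem f (mem_subgroupOf.2 hc)
  let e : ↥(centralizer ({zb} : Set (↥Ct ⧸ N))) ⧸ Rb ≃* ↥Cfsg.Spor.Co2 :=
    ((QuotientGroup.quotientKerEquivOfSurjective β hβs).symm.trans (QuotientGroup.quotientMulEquivOfEq hker)).trans
      (QuotientGroup.quotientKerEquivOfSurjective α2 hα2s)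
  have heq : ∀ c, e (QuotientGroup.mk (f c)) = α2 c := fun c => by
    have h1 : (QuotientGroup.quotientKerEquivOfSurjective β hβs).symm (QuotientGroup.mk (f c)) = QuotientGroup.mk c :=
      (MulEquiv.symm_apply_eq _).2 rfl
    show (QuotientGroup.quotientKerEquivOfSurjective α2 hα2s)
      (QuotientGroup.quotientMulEquivOfEq hker ((QuotientGroup.quotientKerEquivOfSurjective β hβs).symm _)) = _
    rw [h1]
    rfl
  -- the module
  choose p hp using fun y : Cfsg.leechPerpU => D.repr (h⁻¹ • (y : leechLattice))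
  have hperp : ∀ (a : leechLattice) (q : G), R a q →
      (q * t = t * q ↔ (16 : ℤ) ∣ dotInt ((h • a : leechLattice) : GolayPt → ℤ) Cfsg.Spor.vecU) := by
    intro a q hq
    rw [D.comm_iff hv hq htt]
    have e1 : dotInt ((h • a : leechLattice) : GolayPt → ℤ) Cfsg.Spor.vecU =
        dotInt (a : GolayPt → ℤ) (v : GolayPt → ℤ) := by
      rw [← co0_dot h a v, hh]; rfl
    rw [e1]
  have hpD : ∀ y, p y ∈ D0 := fun y => hPD ⟨D.mem (hp y), mem_centralizer_singleton_iff.2 ((hperp _ _ (hp y)).2 (by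
    rw [smul_inv_smul]; exact y.2))⟩
  let P' : Cfsg.leechPerpU → Rb := fun y =>
    ⟨f ⟨p y, hpD y⟩, mem_map_of_mem f (mem_subgroupOf.2 (D.mem (hp y)))⟩
  let ψ : Cfsg.leechPerpU → Rb ⧸ center Rb := fun y => QuotientGroup.mk (P' y)
  -- central elements
  have hcenR : ∀ (c : ↥D0) (hc : (c : G) ∈ Q),
      (⟨f c, mem_map_of_mem f (mem_subgroupOf.2 hc)⟩ : Rb) ∈ center Rb ↔
        ((c : G) = 1 ∨ (c : G) = z ∨ (c : G) = t ∨ (c : G) = z * t) := by
    intro c hc
    have hcom : ∀ (d : ↥D0) (hd : (d : G) ∈ Q),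
        (f c * f d = f d * f c ↔ (c : G) * d = d * c) := by
      intro d hd
      rw [Subtype.ext_iff, coe_mul, coe_mul, hfval, hfval, ← map_mul, ← map_mul]
      constructor
      · intro e1
        have h1 : pr ((⟨c, c.2.2⟩ : ↥Ct) * ⟨d, d.2.2⟩ * (⟨c, c.2.2⟩ : ↥Ct)⁻¹ * (⟨d, d.2.2⟩ : ↥Ct)⁻¹) = 1 := by
          rw [map_mul, map_mul, map_mul, map_inv, map_inv, ← map_mul, e1, map_mul]
          group
        rcases (hprone _).1 h1 with e2 | e2
        · exact mul_inv_eq_iff_eq_mul.1 (mul_inv_eq_one.1 e2)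
        · rcases D.half.comm c hc d hd with e3 | e3
          · exact mul_inv_eq_iff_eq_mul.1 (mul_inv_eq_one.1 e3)
          · exact absurd ((e2.symm.trans e3)) htne
      · intro e1
        exact congrArg pr (Subtype.ext e1)
    constructor
    · intro hz'
      refine D.core.double_centralizer htQ ⟨ht1, htne⟩ hc fun q hq hqt => ?_
      have hqD : q ∈ D0 := hPD ⟨hq, mem_centralizer_singleton_iff.2 hqt⟩
      have := congrArg Subtype.val (mem_center_iff.1 hz' ⟨f ⟨q, hqD⟩, mem_map_of_mem f (mem_subgroupOf.2 hq)⟩)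
      exact ((hcom ⟨q, hqD⟩ hq).1 this.symm).symm
    · intro hcases
      refine mem_center_iff.2 ?_
      rintro ⟨_, d, hd, rfl⟩
      refine Subtype.ext ((hcom d (mem_subgroupOf.1 hd)).2 ?_).symm
      have h1 := D.half.cz (d : G) (mem_subgroupOf.1 hd)
      have h2 := mem_centralizer_singleton_iff.1 d.2.2
      rcases hcases with e1 | e1 | e1 | e1 <;> rw [e1]
      · simp
      · exact h1.symm
      · exact h2.symm
      · rw [mul_assoc, ← h2, ← mul_assoc, ← h1, mul_assoc]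
  have hψeq : ∀ (y : Cfsg.leechPerpU) (c : ↥D0) (hc : R (h⁻¹ • (y : leechLattice)) c),
      ψ y = QuotientGroup.mk (⟨f c, mem_map_of_mem f (mem_subgroupOf.2 (D.mem hc))⟩ : Rb) := by
    intro y c hc
    refine (QuotientGroup.eq).2 ?_
    rcases D.unique (hp y) hc with e1 | e1
    · have : c = ⟨p y, hpD y⟩ := Subtype.ext e1
      subst this
      show (P' y)⁻¹ * P' y ∈ _
      rw [inv_mul_cancel]; exact one_mem _
    · have hzQ : ((⟨p y, hpD y⟩⁻¹ * c : ↥D0) : G) = z := by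
        show (p y)⁻¹ * (c : G) = z
        rw [e1, inv_mul_cancel_left]
      have hmem : ((⟨p y, hpD y⟩⁻¹ * c : ↥D0) : G) ∈ Q := hzQ.symm ▸ D.core.mem
      have := (hcenR _ hmem).2 (Or.inr (Or.inl hzQ))
      convert this using 1
      exact Subtype.ext (by simp [P'])
  refine ⟨zb, Rb, hRbn, ⟨hzb2, hFit, hRext, hRcard, ?_⟩, e, ψ, ?_, ?_, ?_, ?_⟩
  · -- not weakly closed
    have hxt : x ∈ Ct := (sup_le inf_le_right inf_le_right : _ ≤ Ct) hx
    have hsQ' : g * z * g⁻¹ ∈ Q.map (MulAut.conj g).toMonoidHom := mem_map_of_mem _ D.core.mem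
    have hsC : g * z * g⁻¹ ∈ Ct := mem_centralizer_singleton_iff.2
      ((D.half.conj g).cz t htg.2).symm
    refine ⟨(pr ⟨x, hxt⟩)⁻¹, ?_⟩
    have he : (pr ⟨x, hxt⟩)⁻¹ * zb * ((pr ⟨x, hxt⟩)⁻¹)⁻¹ = pr ⟨g * z * g⁻¹, hsC⟩ := by
      rw [← map_inv, ← map_inv, ← map_mul, ← map_mul]
      refine congrArg pr (Subtype.ext ?_)
      show x⁻¹ * z * x⁻¹⁻¹ = g * z * g⁻¹
      conv_lhs => rw [← hxs]
      group
    rw [he]
    have hsD : g * z * g⁻¹ ∈ D0 := hPD ⟨hgQ, hsC⟩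
    refine ⟨⟨(f ⟨_, hsD⟩).2, mem_map_of_mem f (x := ⟨_, hsD⟩) (mem_subgroupOf.2 hgQ)⟩, fun e1 => ?_⟩
    have h1 : pr (⟨g * z * g⁻¹, hsC⟩ * (⟨z, hzC⟩ : ↥Ct)⁻¹) = 1 := by rw [map_mul, map_inv, e1, mul_inv_cancel]
    rcases (hprone _).1 h1 with e2 | e2
    · exact hgne (mul_inv_eq_one.1 e2)
    · exact hztne g ((mul_inv_eq_iff_eq_mul.1 e2).trans hzt.symm)
  · -- sums
    intro a b
    have h1 := D.add (hp a) (hp b)
    rw [← co0_add] at h1
    rw [hψeq (a + b) (⟨p a, hpD a⟩ * ⟨p b, hpD b⟩) h1]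
    rw [show ψ a * ψ b = QuotientGroup.mk (P' a * P' b) from rfl]
    exact congrArg QuotientGroup.mk (Subtype.ext (map_mul f _ _))
  · -- onto
    intro q
    obtain ⟨⟨_, c, hc, rfl⟩, rfl⟩ := QuotientGroup.mk_surjective q
    obtain ⟨a, -, ha⟩ := D.short c (mem_subgroupOf.1 hc)
    refine ⟨⟨h • a, (hperp a c ha).1 (mem_centralizer_singleton_iff.1 c.2.2)⟩, ?_⟩
    exact hψeq _ c (by rw [inv_smul_smul]; exact ha)
  · -- kernel
    intro y
    rw [show ψ y = QuotientGroup.mk (P' y) from rfl, QuotientGroup.eq_one_iff, hcenR ⟨p y, hpD y⟩ (D.mem (hp y))]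
    show p y = 1 ∨ p y = z ∨ p y = t ∨ p y = z * t ↔ _
    have hT : R v (z * t) := by
      obtain ⟨r, hr⟩ := D.repr (0 + 0)
      have hr1 := (D.ker hr).2 ⟨0, rfl⟩
      have h1 := D.add hr hv
      rw [add_zero, zero_add] at h1
      rcases hr1 with e1 | e1 <;> rw [e1] at h1 hr
      · have h2 := D.conj ⟨(D.move htQ ht1 htne).choose, D.core.le (D.move htQ ht1 htne).choose_spec.1⟩ (g := 1)
          (by rw [(D.kerπ _).2 (D.move htQ ht1 htne).choose_spec.1]; rfl) hv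
        rw [one_smul] at h2
        rw [← D.half.cz t htQ]
        have h3 := (D.move htQ ht1 htne).choose_spec.2
        exact h3 ▸ h2
      · exact h1
    constructor
    · intro hcases
      have hv' : ∀ q, R v q → p y = q → ∃ w : leechLattice, (y : leechLattice) = Cfsg.Spor.leechU + (w + w) := by
        intro q hq e1
        obtain ⟨u, hu⟩ := D.congr_of_fixed hq (e1 ▸ hp y)
        refine ⟨h • u, ?_⟩
        rw [← co0_add, ← hh, ← co0_add, ← hu, smul_inv_smul]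
      rcases hcases with e1 | e1 | e1 | e1
      · obtain ⟨u, hu⟩ := (D.ker (hp y)).1 (Or.inl e1)
        exact Or.inl ⟨h • u, by rw [← co0_add, ← hu, smul_inv_smul]⟩
      · obtain ⟨u, hu⟩ := (D.ker (hp y)).1 (Or.inr e1)
        exact Or.inl ⟨h • u, by rw [← co0_add, ← hu, smul_inv_smul]⟩
      · exact Or.inr (hv' t hv e1)
      · exact Or.inr (hv' _ hT e1)
    · rintro (⟨w, hw'⟩ | ⟨w, hw'⟩)
      · rcases (D.ker (hp y)).2 ⟨h⁻¹ • w, by rw [hw', co0_add]⟩ with e1 | e1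
        · exact Or.inl e1
        · exact Or.inr (Or.inl e1)
      · have h1 := hp y
        rw [hw', co0_add, co0_add, ← hh, inv_smul_smul] at h1
        rcases D.unique_congr hv h1 with e1 | e1
        · exact Or.inr (Or.inr (Or.inl e1))
        · exact Or.inr (Or.inr (Or.inr (by rw [e1, D.half.cz t htQ])))
  · -- compatibility
    intro hel gel hge a b hab q hq
    obtain ⟨c, rfl⟩ := hf hel
    rw [heq] at hge
    have hact : h⁻¹ • (b : leechLattice) = (α c : Co0) • (h⁻¹ • (a : leechLattice)) := by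
      rw [← hab, ← hge]
      show h⁻¹ • ((h * (α c : Co0) * h⁻¹) • (a : leechLattice)) = _
      rw [mul_smul, mul_smul, inv_smul_smul]
    have h1 := D.conj ⟨c, c.2.1⟩ (hαπ c).symm (hp a)
    replace h1 : R ((α c : Co0) • (h⁻¹ • (a : leechLattice))) ((c : G) * p a * (c : G)⁻¹) := h1
    rw [← hact] at h1
    rw [hψeq b (c * ⟨p a, hpD a⟩ * c⁻¹) h1]
    have hd : (P' a)⁻¹ * q ∈ center Rb := QuotientGroup.eq.1 hq
    refine QuotientGroup.eq.2 ?_
    have hφ := Subgroup.mem_center_iff.1 hd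
    refine mem_center_iff.2 fun r => ?_
    obtain ⟨r', hr', er⟩ : ∃ r', r' ∈ Rb ∧ (r : ↥(centralizer ({zb} : Set (↥Ct ⧸ N)))) = f c * r' * (f c)⁻¹ :=
      ⟨(f c)⁻¹ * r * f c, by simpa using hRbn.conj_mem r r.2 (f c)⁻¹, by group⟩
    have h2 := congrArg Subtype.val (hφ ⟨r', hr'⟩)
    apply Subtype.ext
    simp only [coe_mul, coe_inv, map_mul, map_inv, er, P'] at h2 ⊢
    calc f c * r' * (f c)⁻¹ * ((f c * f ⟨p a, hpD a⟩ * (f c)⁻¹)⁻¹ * (f c * q * (f c)⁻¹))
        = f c * (r' * ((f ⟨p a, hpD a⟩)⁻¹ * q)) * (f c)⁻¹ := by group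
      _ = f c * (((f ⟨p a, hpD a⟩)⁻¹ * q) * r') * (f c)⁻¹ := by rw [h2]
      _ = _ := by group

end CfsgLib.Spor.MonsterType
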