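import Cfsg.Agent.Lib.Spor.MonsterType.Fusion
import Cfsg.Agent.Lib.Spor.MathieuSimple

/-!
# The stabiliser of a central conjugate inside the extraspecial subgroup, for groups of Monster type
-/

set_option autoImplicit false

namespace CfsgLib.Spor.MonsterType

open Subgroup CfsgLib.Spor.Leech
open Cfsg (leechLattice Co0 sqNorm GolayPt M24)

variable {G : Type*} [Group G] [Finite G] {z : G} {Q : Subgroup G} {R : leechLattice → G → Prop}
  {π : ↥(centralizer ({z} : Set G)) →* Cfsg.Spor.Co1}

/-- The coordinate permutations inside the stabiliser of the standard cross. -/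
def prm : M24 →* crossStab :=
  prmHom.codRestrict crossStab fun σ => monoAut_preserves σ.2 Cfsg.Spor.empty_mem_supports_golayCode

/-- The sign changes inside the stabiliser of the standard cross. -/
def signs : Subgroup crossStab := signSub.subgroupOf crossStab

theorem signSub_le : signSub ≤ crossStab := by
  rintro _ ⟨c, hc, rfl⟩
  exact monoAut_preserves _ hc

theorem negAut_mem_signSub : negAut ∈ signSub := ⟨_, Cfsg.Spor.univ_mem_supports_golayCode, rfl⟩

theorem card_signs : Nat.card signs = 4096 := by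
  rw [signs, Nat.card_congr (subgroupOfEquivOfLe signSub_le).toEquiv, ← ncard_supports, ← Nat.card_coe_set_eq]
  refine (Nat.card_congr (Equiv.ofBijective
    (fun c : Cfsg.supports (Cfsg.golayCode : Set (GolayPt → ZMod 2)) => (⟨sgnAut c.2, c, c.2, rfl⟩ : signSub))
    ⟨fun a b h => Subtype.ext (monoAut_inj (hσ := M24.one_mem) (hτ := M24.one_mem) (hc := a.2) (hd := b.2) (congrArg Subtype.val h)).2, ?_⟩)).symm
  rintro ⟨_, c, hc, rfl⟩
  exact ⟨⟨c, hc⟩, rfl⟩

theorem signs_sq {x : crossStab} (hx : x ∈ signs) : x ^ 2 = 1 := by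
  obtain ⟨c, hc, e⟩ := mem_subgroupOf.1 hx
  exact Subtype.ext (by rw [coe_pow, e, pow_two, sgnAut_sq, OneMemClass.coe_one])

theorem signs_comm {x y : crossStab} (hx : x ∈ signs) (hy : y ∈ signs) : x * y = y * x := by
  obtain ⟨c, hc, e⟩ := mem_subgroupOf.1 hx
  obtain ⟨d, hd, e'⟩ := mem_subgroupOf.1 hy
  exact Subtype.ext (by rw [coe_mul, coe_mul, e, e', sgnAut_comm])

theorem signs_normal : signs.Normal :=
  ⟨fun n hn x => mem_subgroupOf.2 (by
    simpa using signSub_conj x.2 (mem_subgroupOf.1 hn))⟩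

theorem prm_coe (σ : M24) : (prm σ : Co0) = prmAut σ.2 := rfl

theorem split (x : crossStab) : ∃ n ∈ signs, ∃ σ : M24, x = n * prm σ := by
  obtain ⟨σ, hσ, c, hc, e⟩ := exists_monoAut x.2
  exact ⟨⟨sgnAut hc, monoAut_preserves _ hc⟩, ⟨c, hc, rfl⟩, ⟨σ, hσ⟩, Subtype.ext (by
    rw [e, monoAut_eq, coe_mul, prm_coe])⟩

theorem prm_mem_signs {σ : M24} (h : prm σ ∈ signs) : σ = 1 := by
  obtain ⟨c, hc, e⟩ := mem_subgroupOf.1 h
  rw [prm_coe] at e
  exact Subtype.ext (monoAut_inj (hσ := σ.2) (hτ := M24.one_mem) (hc := Cfsg.Spor.empty_mem_supports_golayCode) (hd := hc) e).1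

/-- A normal 2-subgroup of the cross stabiliser consists of sign changes. -/
theorem normal_two_le {N : Subgroup crossStab} [N.Normal] (hN : IsPGroup 2 N) : N ≤ signs := by
  haveI : Fact (Nat.Prime 2) := ⟨Nat.prime_two⟩
  haveI := signs_normal
  haveI := isSimpleGroup_M24
  have hS : IsPGroup 2 signs := fun x => ⟨1, Subtype.ext (by
    rw [pow_one, coe_pow]; exact signs_sq x.2)⟩
  have hM : IsPGroup 2 ((N ⊔ signs).comap prm) :=
    (hN.to_sup_of_normal_right hS).comap_of_injective prm fun a b h =>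
      prmHom_injective (show prmHom a = prmHom b from congrArg (fun x : crossStab => (x : Co0)) h)
  have hbot : (N ⊔ signs).comap prm = ⊥ := by
    refine (Subgroup.Normal.eq_bot_or_eq_top ((inferInstance : (N ⊔ signs).Normal).comap prm)).resolve_right
      fun htop => ?_
    obtain ⟨k, hk⟩ := hM.exists_card_eq
    rw [htop, card_top, card_M24] at hk
    have h3 : 3 ∣ 2 ^ k := hk ▸ (by norm_num)
    have := (Nat.prime_dvd_prime_iff_eq Nat.prime_three Nat.prime_two).1 (Nat.prime_three.dvd_of_dvd_pow h3)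
    omega
  intro x hx
  obtain ⟨n, hn, σ, rfl⟩ := split x
  have hσ : σ ∈ (N ⊔ signs).comap prm :=
    mem_comap.2 (by
      have := mul_mem (mem_sup_right (S := N) (inv_mem hn)) (mem_sup_left (T := signs) hx)
      rwa [inv_mul_cancel_left] at this)
  rw [hbot, mem_bot] at hσ
  rw [hσ, map_one, mul_one]; exact hn

/-- The cross stabiliser moved by `h`, in the first Conway group. -/
def crossMap (h : Co0) : crossStab →* Cfsg.Spor.Co1 :=
  ((QuotientGroup.mk' (center Co0)).comp (MulAut.conj h⁻¹).toMonoidHom).comp crossStab.subtype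

theorem crossMap_apply (h : Co0) (x : crossStab) :
    crossMap h x = QuotientGroup.mk (h⁻¹ * (x : Co0) * h) := by
  show QuotientGroup.mk' _ (h⁻¹ * (x : Co0) * h⁻¹⁻¹) = _
  rw [inv_inv]; rfl

theorem crossMap_ker (h : Co0) {x : crossStab} (hx : crossMap h x = 1) : x ∈ signs := by
  rw [crossMap_apply, QuotientGroup.eq_one_iff] at hx
  have : (x : Co0) ∈ center Co0 := by
    have := Subgroup.Normal.conj_mem inferInstance _ hx h
    simpa [mul_assoc] using this
  rcases mem_center_iff_eq.1 this with e | e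
  · exact mem_subgroupOf.2 (e ▸ one_mem _)
  · exact mem_subgroupOf.2 (e ▸ negAut_mem_signSub)

theorem card_signs_image (h : Co0) : Nat.card (signs.map (crossMap h)) = 2048 := by
  have hk := ((crossMap h).comp signs.subtype).ker.card_mul_index
  rw [index_ker, MonoidHom.range_comp, range_subtype, card_signs] at hk
  suffices hc : Nat.card ((crossMap h).comp signs.subtype).ker = 2 by rw [hc] at hk; omega
  rw [← card_center]
  refine Nat.card_congr (Equiv.ofBijective (fun x => ⟨(((x : signs) : crossStab) : Co0), ?_⟩) ⟨?_, ?_⟩)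
  · have hx : crossMap h ((x : signs) : crossStab) = 1 := x.2
    rw [crossMap_apply, QuotientGroup.eq_one_iff] at hx
    have := Subgroup.Normal.conj_mem inferInstance _ hx h
    simpa [mul_assoc] using this
  · intro a b hab
    have h' := congrArg Subtype.val hab
    exact Subtype.ext (Subtype.ext (Subtype.ext h'))
  · rintro ⟨y, hy⟩
    have hys : y ∈ signSub := by
      rcases mem_center_iff_eq.1 hy with e | e
      · exact e ▸ one_mem _
      · exact e ▸ negAut_mem_signSub
    refine ⟨⟨⟨⟨y, signSub_le hys⟩, mem_subgroupOf.2 hys⟩, ?_⟩, rfl⟩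
    show crossMap h ⟨y, signSub_le hys⟩ = 1
    rw [crossMap_apply, QuotientGroup.eq_one_iff]
    exact Subgroup.Normal.conj_mem' inferInstance _ hy h

theorem prm_meet {h : Co0} {σ : M24} {n : crossStab} (hn : n ∈ signs) (e : crossMap h n = crossMap h (prm σ)) :
    σ = 1 := by
  refine prm_mem_signs ?_
  have h1 : crossMap h (n⁻¹ * prm σ) = 1 := by rw [map_mul, map_inv, e, inv_mul_cancel]
  have := mul_mem hn (crossMap_ker h h1)
  rwa [mul_inv_cancel_left] at this

namespace Data

variable (D : Data z Q R π)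
include D

theorem congr_of_fixed {v w : leechLattice} {s : G} (hv : R v s) (hw : R w s) :
    ∃ u : leechLattice, w = v + (u + u) := by
  obtain ⟨r, hr⟩ := D.repr (w - v)
  have h' := D.add hr hv
  rw [sub_add_cancel] at h'
  obtain ⟨u, hu⟩ := (D.ker hr).1 (by
    rcases D.unique hw h' with e | e
    · exact Or.inl (mul_eq_right.1 e)
    · right
      rw [D.half.cz s (D.mem hv)] at e
      exact mul_right_cancel e)
  exact ⟨u, by rw [← hu, add_sub_cancel]⟩

theorem unique_congr {v u : leechLattice} {s q : G} (hv : R v s) (hq : R (v + (u + u)) q) : q = s ∨ q = s * z := by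
  obtain ⟨r, hr⟩ := D.repr (u + u)
  have h' := D.add hv hr
  rcases (D.ker hr).2 ⟨u, rfl⟩ with e | e <;> rw [e] at h'
  · rw [mul_one] at h'
    exact D.unique h' hq
  · rcases D.unique h' hq with e' | e'
    · exact Or.inr e'
    · exact Or.inl (by rw [e', mul_assoc, D.zz, mul_one])

/-- The stabiliser of a central conjugate maps onto a conjugate of the cross stabiliser. -/
theorem stab_image {v : leechLattice} {s : G} (hv : R v s) (h64 : sqNorm (v : GolayPt → ℤ) = 64) {h : Co0}
    (hh : h • v = eight none) :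
    ((centralizer ({z} : Set G) ⊓ centralizer ({s} : Set G)).subgroupOf (centralizer ({z} : Set G))).map π =
      (crossMap h).range := by
  have hsn := D.noncentral hv (by omega)
  refine le_antisymm ?_ ?_
  · rintro _ ⟨c, hc, rfl⟩
    obtain ⟨w, hw⟩ := QuotientGroup.mk_surjective (π c)
    have hcs : (c : G) * s * (c : G)⁻¹ = s := mul_inv_eq_iff_eq_mul.2 (mem_centralizer_singleton_iff.1 hc.2)
    have h' := D.conj c hw.symm hv
    rw [hcs] at h'
    obtain ⟨u, hu⟩ := D.congr_of_fixed hv h'
    have hx : (h * w * h⁻¹) • eight none = eight none + (h • u + h • u) := by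
      rw [← hh, ← mul_smul, inv_mul_cancel_right, mul_smul, hu, co0_add, co0_add]
    have hin : ((h * w * h⁻¹) • eight none : leechLattice).1 ∈ Cfsg.cross (Pi.single none 8) :=
      ⟨Subtype.prop _, (co0_norm _ _).trans rfl, (-(h • u) : leechLattice), Subtype.prop _, by
        rw [hx]
        show Pi.single none 8 - ((eight none : GolayPt → ℤ) + ((h • u : leechLattice).1 + (h • u : leechLattice).1))
          = 2 • -((h • u : leechLattice).1)
        rw [two_nsmul]
        show Pi.single none 8 - (Pi.single none 8 + _) = _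
        abel⟩
    rw [cross_single] at hin
    obtain ⟨j, hj⟩ := mem_stdCross_iff.1 hin
    refine ⟨⟨_, mem_crossStab_of_congr (i := none) (j := j) hj⟩, ?_⟩
    rw [crossMap_apply]
    show QuotientGroup.mk (h⁻¹ * (h * w * h⁻¹) * h) = π c
    rw [show h⁻¹ * (h * w * h⁻¹) * h = w by group, hw]
  · rintro _ ⟨x, rfl⟩
    set w : Co0 := h⁻¹ * (x : Co0) * h with hwdef
    obtain ⟨u, hu⟩ : ∃ u, (x : Co0) • eight none = eight none + (u + u) := by
      have hin := x.2 (eight none) (eight_mem_stdCross none)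
      obtain ⟨j, hj | hj⟩ := mem_stdCross_iff.1 hin
      · exact ⟨_, hj.trans (Leech.Plus.eight_congr j none)⟩
      · refine ⟨Leech.Plus.P2 j none - eight none - eight j, hj.trans ?_⟩
        conv_lhs => rw [Leech.Plus.eight_congr j none]
        rw [show eight j = eight none + ((Leech.Plus.P2 j none - eight none) + (Leech.Plus.P2 j none - eight none))
          from Leech.Plus.eight_congr j none]
        abel
    have hwv : w • v = v + (h⁻¹ • u + h⁻¹ • u) := by
      rw [hwdef, mul_smul, hh, mul_smul, hu, co0_add, co0_add, ← hh, inv_smul_smul]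
    obtain ⟨c, hc⟩ := D.surj (QuotientGroup.mk w)
    have h' := D.conj c hc hv
    rw [hwv] at h'
    rcases D.unique_congr hv h' with e | e
    · exact ⟨c, ⟨c.2, mem_centralizer_singleton_iff.2 (mul_inv_eq_iff_eq_mul.1 e)⟩, by rw [crossMap_apply, hc]⟩
    · obtain ⟨y, hy, hys⟩ := D.move (D.mem hv) hsn.1 hsn.2
      refine ⟨⟨y, D.core.le hy⟩ * c, ⟨mul_mem (D.core.le hy) c.2, mem_centralizer_singleton_iff.2 ?_⟩, ?_⟩
      · refine mul_inv_eq_iff_eq_mul.1 ?_
        show y * (c : G) * s * (y * (c : G))⁻¹ = s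
        rw [show y * (c : G) * s * (y * (c : G))⁻¹ = y * ((c : G) * s * (c : G)⁻¹) * y⁻¹ by group, e,
          show y * (s * z) * y⁻¹ = (y * s * y⁻¹) * (y * z * y⁻¹) by group, hys, D.half.cz y hy,
          mul_inv_cancel_right, mul_assoc, D.zz, mul_one]
      · rw [map_mul, (D.kerπ _).2 hy, one_mul, crossMap_apply, hc]

/-- The image of the conjugate subgroup and the order of the intersection. -/
theorem image_conjugate {g : G} (hgQ : g * z * g⁻¹ ∈ Q) (hne : g * z * g⁻¹ ≠ z) :
    ∃ (h : Co0) (v : leechLattice), (R v (g * z * g⁻¹) ∧ h • v = eight none) ∧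
      ((centralizer ({z} : Set G) ⊓ centralizer ({g * z * g⁻¹} : Set G)).subgroupOf
        (centralizer ({z} : Set G))).map π = (crossMap h).range ∧
      ((Q.map (MulAut.conj g).toMonoidHom ⊓ centralizer ({z} : Set G)).subgroupOf
        (centralizer ({z} : Set G))).map π = signs.map (crossMap h) ∧
      Nat.card ↥(Q ⊓ Q.map (MulAut.conj g).toMonoidHom) = 2 ^ 13 := by
  haveI : Fact (Nat.Prime 2) := ⟨Nat.prime_two⟩
  obtain ⟨v, hv, h64⟩ := D.long hgQ hne
  obtain ⟨h, hh⟩ := transitive_norm (x := v) (y := eight none) (Or.inr (Or.inr h64))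
    ((sqNorm_eight none).trans h64.symm)
  have hX := D.stab_image hv h64 hh
  refine ⟨h, v, ⟨hv, hh⟩, hX, ?_⟩
  set E := (Q.map (MulAut.conj g).toMonoidHom ⊓ centralizer ({z} : Set G)).subgroupOf (centralizer ({z} : Set G))
    with hE
  have hEX : E ≤ (centralizer ({z} : Set G) ⊓ centralizer ({g * z * g⁻¹} : Set G)).subgroupOf
      (centralizer ({z} : Set G)) := fun e he =>
    ⟨e.2, mem_centralizer_singleton_iff.2 ((D.half.conj g).cz _ he.1)⟩
  have hIle : E.map π ≤ (crossMap h).range := hX ▸ map_mono hEX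
  have hN : ((E.map π).comap (crossMap h)).Normal := ⟨fun n hn x => by
    obtain ⟨c, hc, hcx⟩ : crossMap h x ∈ ((centralizer ({z} : Set G) ⊓ centralizer ({g * z * g⁻¹} : Set G)).subgroupOf
        (centralizer ({z} : Set G))).map π := hX ▸ ⟨x, rfl⟩
    obtain ⟨e, he, hen⟩ := hn
    refine ⟨c * e * c⁻¹, ⟨D.image_conj c (mem_centralizer_singleton_iff.1 hc.2) he.1, (c * e * c⁻¹).2⟩, ?_⟩
    rw [map_mul, map_mul, map_inv, hcx, hen, map_mul, map_mul, map_inv]⟩
  have hN2 : IsPGroup 2 ((E.map π).comap (crossMap h)) :=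
    (D.image_pGroup g).comap_of_ker_isPGroup _ fun x => ⟨1, Subtype.ext (by
      rw [pow_one, coe_pow]; exact signs_sq (crossMap_ker h x.2))⟩
  have hle : E.map π ≤ signs.map (crossMap h) := by
    rintro y hy
    obtain ⟨x, rfl⟩ := hIle hy
    exact mem_map_of_mem _ (normal_two_le hN2 hy)
  have hk := (π.comp E.subtype).ker.card_mul_index
  rw [index_ker, MonoidHom.range_comp, range_subtype] at hk
  have hker : Nat.card (π.comp E.subtype).ker ≤ Nat.card ↥(Q ⊓ Q.map (MulAut.conj g).toMonoidHom) := by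
    refine Nat.card_le_card_of_injective
      (fun x => (⟨(((x : E) : ↥(centralizer ({z} : Set G))) : G), (D.kerπ _).1 x.2, (x : E).2.1⟩ :
        ↥(Q ⊓ Q.map (MulAut.conj g).toMonoidHom))) ?_
    intro a b hab
    have h' := congrArg Subtype.val hab
    exact Subtype.ext (Subtype.ext (Subtype.ext h'))
  have hEc : 2 ^ 24 ≤ Nat.card E := by
    rw [hE, Nat.card_congr (subgroupOfEquivOfLe inf_le_right).toEquiv]; exact D.card_E hgQ hne
  have h13 := D.card_inter_le hgQ hne
  have h11 : Nat.card ↥(E.map π) ≤ 2048 := card_signs_image h ▸ card_le_of_le hle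
  have hpos : 0 < Nat.card ↥(E.map π) := Nat.card_pos
  refine ⟨eq_of_le_of_card_ge hle ?_, ?_⟩
  · rw [card_signs_image]; nlinarith
  · nlinarith

end Data

end CfsgLib.Spor.MonsterType
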