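import Cfsg.Agent.Lib.Spor.MonsterType.Cross

/-!
# Non-central involutions of `Q` in the intersection with a conjugate, for groups of Monster type
-/

set_option autoImplicit false

namespace CfsgLib.Spor.MonsterType

open Subgroup CfsgLib.Spor.Leech
open Cfsg (leechLattice Co0 sqNorm GolayPt dotInt M24 signedPerm)
open MulAction (stabilizer)

variable {G : Type*} [Group G] [Finite G] {z : G} {Q : Subgroup G} {R : leechLattice → G → Prop}
  {π : ↥(centralizer ({z} : Set G)) →* Cfsg.Spor.Co1}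

/-- An octad meeting the base octad in two points. -/
def cutOctad : ℕ := (codeList.find? fun m => pop 24 m == 8 && pop 24 (m &&& baseOctad) == 2).getD 0

theorem cutOctad_facts : codeTest cutOctad = true ∧ sqNorm (twoVec baseOctad) = 32 ∧
    sqNorm (signedPerm 1 (pts cutOctad) (twoVec baseOctad) - twoVec baseOctad) = 32 ∧
    sqNorm (twoVec baseOctad + Pi.single none 8) / 16 % 2 = 0 := by
  decide +kernel

namespace Data

variable (D : Data z Q R π)
include D

/-- One element lies over classes of one squared length only. -/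
theorem norm_unique {v w : leechLattice} {s : G} (hv : R v s) (hw : R w s) (hvn : sqNorm (v : GolayPt → ℤ) ≤ 64)
    (hwn : sqNorm (w : GolayPt → ℤ) ≤ 64) : sqNorm (v : GolayPt → ℤ) = sqNorm (w : GolayPt → ℤ) := by
  obtain ⟨u, hu⟩ := D.congr_of_fixed hw hv
  refine (short_congr_norm v.2 w.2 hvn hwn ⟨u, u.2, ?_⟩).1
  rw [← AddSubgroup.coe_sub, hu, two_nsmul, add_sub_cancel_left]; rfl

/-- An involution over a class of squared length 32 is not conjugate to `z`. -/
theorem not_conj_short {v : leechLattice} {q : G} (hq : R v q) (hv : sqNorm (v : GolayPt → ℤ) = 32) :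
    ¬ IsConj z q := by
  intro hc
  obtain ⟨g, rfl⟩ := isConj_iff.1 hc
  exact D.not_short (D.mem hq) (D.noncentral hq (by omega)).2 hq hv

/-- Commutation with an involution of `Q` is read off the inner product. -/
theorem comm_iff {v a : leechLattice} {t p : G} (ht : R v t) (hp : R a p) (htt : t * t = 1) :
    p * t = t * p ↔ (16 : ℤ) ∣ dotInt (a : GolayPt → ℤ) (v : GolayPt → ℤ) := by
  have h := D.sq (D.add hp ht)
  have h1 := D.sq hp
  have h2 := (D.sq ht).1 htt
  obtain ⟨i, hi⟩ := sqNorm_dvd a.2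
  obtain ⟨j, hj⟩ := sqNorm_dvd v.2
  obtain ⟨k, hk⟩ := dot_dvd a.2 v.2
  rw [AddSubgroup.coe_add, sqNorm_add, hi, hj, hk,
    show 16 * i + 2 * (8 * k) + 16 * j = 16 * (i + k + j) by ring,
    Int.mul_ediv_cancel_left _ (by norm_num : (16 : ℤ) ≠ 0), zmod2_cast_eq_zero] at h
  rw [hi, Int.mul_ediv_cancel_left _ (by norm_num : (16 : ℤ) ≠ 0), zmod2_cast_eq_zero] at h1
  rw [hj, Int.mul_ediv_cancel_left _ (by norm_num : (16 : ℤ) ≠ 0), zmod2_cast_eq_zero] at h2
  have hpQ := D.mem hp
  have htQ := D.mem ht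
  constructor
  · intro hc
    have e : p * t * (p * t) = p * p := by
      rw [show p * t * (p * t) = p * (t * p) * t by group, ← hc, show p * (p * t) * t = p * p * (t * t) by group, htt,
        mul_one]
    rw [e] at h
    rw [hk]
    have hk2 : k % 2 = 0 := by
      rcases D.half.sqQ p hpQ with e' | e'
      · have a1 := h.1 e'; have a2 := h1.1 e'; omega
      · have a1 : ¬ (i + k + j) % 2 = 0 := fun x => D.z_ne (e' ▸ h.2 x)
        have a2 : ¬ i % 2 = 0 := fun x => D.z_ne (e' ▸ h1.2 x)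
        omega
    omega
  · intro hd
    have hk2 : k % 2 = 0 := by rw [hk] at hd; omega
    rcases D.half.comm p hpQ t htQ with e | e
    · exact mul_inv_eq_iff_eq_mul.1 (mul_inv_eq_one.1 e)
    exfalso
    have e' : p * t = z * (t * p) := by
      calc p * t = (p * t * p⁻¹ * t⁻¹) * (t * p) := by group
        _ = _ := by rw [e]
    have hcz := D.half.cz p hpQ
    have e2 : p * t * (p * t) = p * p * z := by
      calc p * t * (p * t) = p * t * (z * (t * p)) := by rw [← e']
        _ = p * (t * z) * (t * p) := by group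
        _ = p * (z * t) * (t * p) := by rw [D.half.cz t htQ]
        _ = p * z * (t * t) * p := by group
        _ = p * (z * p) := by rw [htt]; group
        _ = p * (p * z) := by rw [hcz]
        _ = _ := by group
    rw [e2] at h
    rcases D.half.sqQ p hpQ with e3 | e3
    · rw [e3, one_mul] at h
      have a2 := h1.1 e3
      exact D.z_ne (h.2 (by omega))
    · rw [e3, D.zz] at h
      have a1 := h.1 rfl
      exact D.z_ne (e3 ▸ h1.2 (by omega))

/-- Some intersection with a conjugate contains a given short involution. -/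
theorem exists_meet (hw : ∃ g : G, g * z * g⁻¹ ∈ Q ∧ g * z * g⁻¹ ≠ z) {v : leechLattice} {t : G} (ht : R v t)
    (hv : sqNorm (v : GolayPt → ℤ) = 32) :
    ∃ g : G, g * z * g⁻¹ ∈ Q ∧ g * z * g⁻¹ ≠ z ∧ t ∈ Q ⊓ Q.map (MulAut.conj g).toMonoidHom := by
  obtain ⟨g, hgQ, hne⟩ := hw
  obtain ⟨hcode, hO, hdiff, hperp⟩ := cutOctad_facts
  obtain ⟨h, w, ⟨hws, hh⟩, -, hI, -⟩ := D.image_conjugate hgQ hne
  have hc := pts_supports (m := cutOctad) hcode
  let O : leechLattice := ⟨twoVec baseOctad, leechTest_spec (by decide +kernel)⟩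
  let σ : Co0 := sgnAut hc
  let n : crossStab := ⟨σ, monoAut_preserves _ hc⟩
  -- the element of the conjugate
  obtain ⟨e, he, hen⟩ : crossMap h n ∈ _ := hI ▸ mem_map_of_mem (crossMap h) (x := n) (K := signs)
    (mem_subgroupOf.2 ⟨_, hc, rfl⟩)
  rw [crossMap_apply] at hen
  -- the element of `Q` commuting with the conjugate of `z`
  obtain ⟨q, hq⟩ := D.repr (h⁻¹ • O)
  have hs2 : g * z * g⁻¹ * (g * z * g⁻¹) = 1 := by
    rw [show g * z * g⁻¹ * (g * z * g⁻¹) = g * (z * z) * g⁻¹ by group, D.zz]; group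
  have hqq : q * q = 1 := (D.sq hq).2 (by
    rw [co0_norm, show sqNorm (O : GolayPt → ℤ) = 32 from hO, zmod2_cast_eq_zero]; norm_num)
  have hqs : q * (g * z * g⁻¹) = g * z * g⁻¹ * q := by
    rw [D.comm_iff hws hq hs2]
    have e1 : dotInt ((h⁻¹ • O : leechLattice) : GolayPt → ℤ) (w : GolayPt → ℤ) =
        dotInt (O : GolayPt → ℤ) (eight none : GolayPt → ℤ) := by
      rw [← co0_dot h, smul_inv_smul, hh]
    rw [e1]
    obtain ⟨k, hk⟩ := dot_dvd O.2 (eight none).2
    rw [show (eight none : GolayPt → ℤ) = Pi.single none 8 from rfl] at hk ⊢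
    rw [sqNorm_add, hk, show sqNorm (twoVec baseOctad) = 32 from hO,
      show sqNorm (Pi.single none 8 : GolayPt → ℤ) = 64 from sqNorm_eight none] at hperp
    show (16 : ℤ) ∣ dotInt (O : GolayPt → ℤ) (Pi.single none 8)
    rw [hk]
    omega
  -- the commutator
  obtain ⟨r₀, hr₀⟩ := D.repr (h⁻¹ • (σ • O - O))
  have hr : R ((h⁻¹ • (σ • O - O)) + (h⁻¹ • O + h⁻¹ • O)) ((e : G) * q * (e : G)⁻¹ * q) := by
    have hconj := D.conj e hen hq
    have := D.add hconj hq
    convert this using 1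
    rw [show (h⁻¹ * (n : Co0) * h) • (h⁻¹ • O) = h⁻¹ • (σ • O) by rw [mul_smul, smul_inv_smul, mul_smul],
      ← co0_add, ← co0_add, ← co0_add]
    congr 1
    abel
  have hn0 : sqNorm ((h⁻¹ • (σ • O - O) : leechLattice) : GolayPt → ℤ) = 32 := by
    rw [co0_norm]; exact hdiff
  set Q' := Q.map (MulAut.conj g).toMonoidHom
  have he' : (e : G) ∈ Q' := he.1
  have hz' : z ∈ Q' := (D.duo hgQ hne).mem
  have hmem : (e : G) * q * (e : G)⁻¹ * q ∈ Q ⊓ Q' := by
    refine ⟨Subgroup.mul_mem Q (D.half.norm _ (mem_centralizer_singleton_iff.1 e.2) q (D.mem hq)) (D.mem hq), ?_⟩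
    have hqi : q⁻¹ = q := inv_eq_of_mul_eq_one_right hqq
    have h1 : q * (e : G)⁻¹ * q⁻¹ ∈ Q' := (D.half.conj g).norm q hqs _ (inv_mem he')
    rw [hqi] at h1
    have := Subgroup.mul_mem Q' he' h1
    rwa [show (e : G) * (q * (e : G)⁻¹ * q) = (e : G) * q * (e : G)⁻¹ * q by group] at this
  have hr₀mem : r₀ ∈ Q ⊓ Q' := by
    rcases D.unique_congr hr₀ hr with e1 | e1
    · rwa [e1] at hmem
    · have := Subgroup.mul_mem (Q ⊓ Q') hmem (show z ∈ Q ⊓ Q' from ⟨D.core.mem, hz'⟩)
      rwa [e1, mul_assoc, D.zz, mul_one] at this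
  obtain ⟨c, hcz, hct⟩ := D.orbit hr₀ ht (Or.inl hn0) (hv.trans hn0.symm)
  refine ⟨c * g, ?_, ?_, D.mem ht, ?_⟩
  · rw [show c * g * z * (c * g)⁻¹ = c * (g * z * g⁻¹) * c⁻¹ by group]
    exact D.half.norm c (mem_centralizer_singleton_iff.1 hcz) _ hgQ
  · intro h'
    apply hne
    calc g * z * g⁻¹ = c⁻¹ * (c * g * z * (c * g)⁻¹) * c := by group
      _ = c⁻¹ * (z * c) := by rw [h']; group
      _ = c⁻¹ * (c * z) := by rw [mem_centralizer_singleton_iff.1 hcz]
      _ = z := by group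
  · rw [← hct]
    obtain ⟨a, ha, ha'⟩ := hr₀mem.2
    refine ⟨a, ha, ?_⟩
    show c * g * a * (c * g)⁻¹ = c * r₀ * c⁻¹
    rw [← ha']
    show _ = c * (g * a * g⁻¹) * c⁻¹
    group

end Data

end CfsgLib.Spor.MonsterType
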