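import Cfsg.Agent.Lib.Spor.MonsterType.Setup

/-!
# Fusion inside the extraspecial subgroup of a group of Monster type
-/

set_option autoImplicit false

namespace CfsgLib.Spor.MonsterType

open Subgroup CfsgLib.Spor.Leech
open Cfsg (leechLattice Co0 sqNorm GolayPt)
open MulAction (stabilizer)

variable {G : Type*} [Group G] [Finite G] {z : G} {Q : Subgroup G} {R : leechLattice → G → Prop}
  {π : ↥(centralizer ({z} : Set G)) →* Cfsg.Spor.Co1}

namespace Data

variable (D : Data z Q R π)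
include D

theorem zz : z * z = 1 := by rw [← pow_two, ← D.core.ord, pow_orderOf_eq_one]

theorem z_ne : z ≠ 1 := fun h => by have := D.core.ord; rw [h, orderOf_one] at this; omega

theorem half : LargeQ.Half Q z where
  mem := D.core.mem
  ne := D.z_ne
  sq := D.zz
  cz q hq := mem_centralizer_singleton_iff.1 (D.core.le hq)
  comm := D.core.comm_eq
  sqQ := D.core.sq_eq
  norm := D.core.norm
  cent c hc := (D.core.center_iff c).1 (D.core.cent ▸ mem_centralizer_iff.2 hc)
  two := IsPGroup.of_card (n := 25) D.card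

/-- A non-central element of `Q` is moved to its product with `z` inside `Q`. -/
theorem move {q : G} (hq : q ∈ Q) (h1 : q ≠ 1) (h2 : q ≠ z) : ∃ y ∈ Q, y * q * y⁻¹ = q * z := by
  by_contra hcon
  push Not at hcon
  refine (D.half.cent q fun r hr => ?_).elim h1 h2
  rcases D.half.comm r hr q hq with h | h
  · exact mul_inv_eq_iff_eq_mul.1 (mul_inv_eq_one.1 h)
  · exact absurd ((mul_inv_eq_iff_eq_mul.1 h).trans (D.half.cz q hq).symm) (hcon r hr)

theorem noncentral {v : leechLattice} {q : G} (h : R v q)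
    (hn : 0 < sqNorm (v : GolayPt → ℤ) ∧ sqNorm (v : GolayPt → ℤ) ≤ 64) : q ≠ 1 ∧ q ≠ z := by
  rw [← not_or, D.ker h]
  rintro ⟨w, rfl⟩
  rw [AddSubgroup.coe_add, ← two_nsmul, sqNorm_two_nsmul] at hn
  have h0 : (w : GolayPt → ℤ) ≠ 0 := fun e => by rw [e] at hn; simp [sqNorm] at hn
  have := sqNorm_min w.2 h0
  omega

/-- The two elements over one class are conjugate. -/
theorem transport {v w : leechLattice} {s t : G} (hs : R v s) (ht : R w t) (hn : t ≠ 1 ∧ t ≠ z) {g : Co0}
    (hg : g • v = w) :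
    ∃ c : ↥(centralizer ({z} : Set G)), π c = QuotientGroup.mk g ∧ (c : G) * s * (c : G)⁻¹ = t := by
  obtain ⟨c, hc⟩ := D.surj (QuotientGroup.mk g)
  have h := D.conj c hc hs
  rw [hg] at h
  rcases D.unique h ht with e | e
  · exact ⟨c, hc, e.symm⟩
  · obtain ⟨y, hy, hyt⟩ := D.move (D.mem ht) hn.1 hn.2
    refine ⟨⟨y, D.core.le hy⟩ * c, ?_, ?_⟩
    · rw [map_mul, (D.kerπ _).2 hy, one_mul, hc]
    · have e' : (c : G) * s * (c : G)⁻¹ = t * z := by rw [e, mul_assoc ((c : G) * s * (c : G)⁻¹), D.zz, mul_one]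
      show y * (c : G) * s * (y * (c : G))⁻¹ = t
      rw [show y * (c : G) * s * (y * (c : G))⁻¹ = y * ((c : G) * s * (c : G)⁻¹) * y⁻¹ by group, e',
        show y * (t * z) * y⁻¹ = (y * t * y⁻¹) * (y * z * y⁻¹) by group, hyt, D.half.cz y hy, mul_inv_cancel_right,
        mul_assoc, D.zz, mul_one]

theorem orbit {v w : leechLattice} {s t : G} (hs : R v s) (ht : R w t)
    (hn : sqNorm (v : GolayPt → ℤ) = 32 ∨ sqNorm (v : GolayPt → ℤ) = 48 ∨ sqNorm (v : GolayPt → ℤ) = 64)
    (he : sqNorm (w : GolayPt → ℤ) = sqNorm (v : GolayPt → ℤ)) :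
    ∃ h ∈ centralizer ({z} : Set G), h * s * h⁻¹ = t := by
  obtain ⟨g, hg⟩ := transitive_norm hn he
  obtain ⟨c, -, hc⟩ := D.transport hs ht (D.noncentral ht (by omega)) hg
  exact ⟨c, c.2, hc⟩

/-- An involution of `Q` other than `z` lies over a class of squared length 32 or 64. -/
theorem norm_cases {s : G} (hs : s ∈ Q) (h1 : s ≠ 1) (h2 : s ≠ z) (hss : s * s = 1) :
    ∃ v, R v s ∧ (sqNorm (v : GolayPt → ℤ) = 32 ∨ sqNorm (v : GolayPt → ℤ) = 64) := by
  obtain ⟨v, hv, hvs⟩ := D.short s hs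
  refine ⟨v, hvs, ?_⟩
  have hne : (v : GolayPt → ℤ) ≠ 0 := fun e => ((D.ker hvs).2 ⟨0, by
    rw [add_zero]; exact Subtype.ext e⟩).elim h1 h2
  have := sqNorm_min v.2 hne
  obtain ⟨k, hk⟩ := sqNorm_dvd v.2
  have hev := (D.sq hvs).1 hss
  rw [hk, Int.mul_ediv_cancel_left _ (by norm_num : (16 : ℤ) ≠ 0), zmod2_cast_eq_zero] at hev
  omega

theorem duo {g : G} (hgQ : g * z * g⁻¹ ∈ Q) (hne : g * z * g⁻¹ ≠ z) :
    LargeQ.Duo Q (Q.map (MulAut.conj g).toMonoidHom) z (g * z * g⁻¹) :=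
  ⟨D.half, D.half.conj g, hgQ, LargeQ.centre_mem_conj Q z D.core.ext D.core.center_iff D.core.ord D.core.cent
    D.core.norm (by rw [D.card]; norm_num) g hne hgQ, hne, g, rfl, rfl⟩

/-- The conjugate of `Q` inside the centralizer of `z`. -/
theorem card_E {g : G} (hgQ : g * z * g⁻¹ ∈ Q) (hne : g * z * g⁻¹ ≠ z) :
    2 ^ 24 ≤ Nat.card ↥(Q.map (MulAut.conj g).toMonoidHom ⊓ centralizer ({z} : Set G)) := by
  classical
  have h := (D.duo hgQ hne).symm
  set Q' := Q.map (MulAut.conj g).toMonoidHom with hQ'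
  set E := Q' ⊓ centralizer ({z} : Set G) with hE
  have hc : Nat.card ↥Q' = 2 ^ 25 := by
    rw [hQ', ← Nat.card_congr (Q.equivMapOfInjective _ (MulAut.conj g).injective).toEquiv, D.card]
  obtain ⟨y, hy, hyz⟩ := h.exists_move
  let f : ↥Q' → Fin 2 × ↥E := fun x =>
    if hx : (x : G) * z = z * x then (0, ⟨x, x.2, mem_centralizer_singleton_iff.2 hx⟩)
    else (1, ⟨y⁻¹ * x, Subgroup.mul_mem Q' (Subgroup.inv_mem Q' hy) x.2,
      mem_centralizer_singleton_iff.2 ((h.mem_or_move hyz hy x.2).resolve_left hx)⟩)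
  have hf : Function.Injective f := by
    intro a b hab
    simp only [f] at hab
    split_ifs at hab with h1 h2 h3
    · exact Subtype.ext (congrArg (fun p : Fin 2 × ↥E => (p.2 : G)) hab)
    · exact absurd (congrArg Prod.fst hab) (by simp)
    · exact absurd (congrArg Prod.fst hab) (by simp)
    · exact Subtype.ext (mul_left_cancel (congrArg (fun p : Fin 2 × ↥E => (p.2 : G)) hab))
  have := Nat.card_le_card_of_injective f hf
  rw [Nat.card_prod, Nat.card_fin, hc] at this
  omega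

/-- The intersection of the two subgroups is small. -/
theorem card_inter_le {g : G} (hgQ : g * z * g⁻¹ ∈ Q) (hne : g * z * g⁻¹ ≠ z) :
    Nat.card ↥(Q ⊓ Q.map (MulAut.conj g).toMonoidHom) ≤ 2 ^ 13 := by
  haveI : Fact (Nat.Prime 2) := ⟨Nat.prime_two⟩
  have h := D.duo hgQ hne
  have hS := (CfsgLib.PGroup.smallCenter_of_extraspecial D.core.ext).1
  have hle : Q ⊓ Q.map (MulAut.conj g).toMonoidHom ≤ Q := inf_le_left
  have hab : IsMulCommutative ((Q ⊓ Q.map (MulAut.conj g).toMonoidHom).subgroupOf Q) :=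
    ⟨⟨fun a b => Subtype.ext (Subtype.ext (h.inter_abelian a.2.1 a.2.2 b.2.1 b.2.2))⟩⟩
  have := hS.card_abelian_le _ hab
  rw [Nat.card_congr (subgroupOfEquivOfLe hle).toEquiv, D.card] at this
  nlinarith

/-- The image of the conjugate in the first Conway group is normalised by the stabiliser of its centre. -/
theorem image_conj {g : G} (c : ↥(centralizer ({z} : Set G)))
    (hc : (c : G) * (g * z * g⁻¹) = g * z * g⁻¹ * c) {e : ↥(centralizer ({z} : Set G))}
    (he : (e : G) ∈ Q.map (MulAut.conj g).toMonoidHom) :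
    ((c * e * c⁻¹ : ↥(centralizer ({z} : Set G))) : G) ∈ Q.map (MulAut.conj g).toMonoidHom :=
  (D.half.conj g).norm c hc e he

/-- The image of the conjugate in the first Conway group. -/
theorem image_pGroup (g : G) :
    IsPGroup 2 ((((Q.map (MulAut.conj g).toMonoidHom ⊓ centralizer ({z} : Set G)).subgroupOf
      (centralizer ({z} : Set G))).map π : Subgroup Cfsg.Spor.Co1)) :=
  (((D.half.conj g).two.to_le inf_le_left).comap_subtype).map π

/-- No conjugate of `z` in `Q` other than `z` lies over a shortest class. -/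
theorem not_short {g : G} (hgQ : g * z * g⁻¹ ∈ Q) (hne : g * z * g⁻¹ ≠ z) {v : leechLattice}
    (hv : R v (g * z * g⁻¹)) : sqNorm (v : GolayPt → ℤ) ≠ 32 := by
  intro h32
  haveI : Fact (Nat.Prime 2) := ⟨Nat.prime_two⟩
  set s := g * z * g⁻¹ with hs
  set Q' := Q.map (MulAut.conj g).toMonoidHom with hQ'
  set I := ((Q' ⊓ centralizer ({z} : Set G)).subgroupOf (centralizer ({z} : Set G))).map π with hI
  let m : stabilizer Co0 v →* Cfsg.Spor.Co1 := (QuotientGroup.mk' (center Co0)).comp (stabilizer Co0 v).subtype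
  have hvne : v ≠ -v := fun e => by
    have h0 : (v : GolayPt → ℤ) = 0 := funext fun i => by
      have := congrFun (congrArg Subtype.val e) i
      simp at this; simp [Pi.zero_apply]; omega
    rw [h0] at h32; simp [sqNorm] at h32
  have hm : Function.Injective m := (injective_iff_map_eq_one m).2 fun x hx => by
    rcases mem_center_iff_eq.1 ((QuotientGroup.eq_one_iff _).1 hx) with e | e
    · exact Subtype.ext e
    · exfalso
      have h1 : (x : Co0) • v = v := x.2
      rw [show (x : Co0) = negAut from e, negAut_smul] at h1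
      exact hvne h1.symm
  let N : Subgroup (stabilizer Co0 v) := I.comap m
  have hsn := D.noncentral hv (by omega)
  have hN : N.Normal := ⟨by
    intro n hn x
    obtain ⟨c, hc, hcs⟩ := D.transport hv hv hsn (show (x : Co0) • v = v from x.2)
    obtain ⟨e, he, hen⟩ := hn
    have he' : (e : G) ∈ Q' := he.1
    refine ⟨c * e * c⁻¹, ⟨D.image_conj c (mul_inv_eq_iff_eq_mul.1 hcs) he', (c * e * c⁻¹).2⟩, ?_⟩
    rw [map_mul, map_mul, map_inv, hc, hen]
    rfl⟩
  obtain ⟨k, hk⟩ := ((D.image_pGroup g).comap_of_injective m hm).exists_card_eq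
  have hbot : N = ⊥ := normal_two_trivial h32 (N := N) hk
  have key : ∀ e ∈ Q' ⊓ centralizer ({z} : Set G), e ∈ Q := by
    rintro e ⟨he, hez⟩
    obtain ⟨w, hw⟩ := QuotientGroup.mk_surjective (π ⟨e, hez⟩)
    have hconj := D.conj ⟨e, hez⟩ hw.symm hv
    have hes : e * s * e⁻¹ = s := mul_inv_eq_iff_eq_mul.2 ((D.half.conj g).cz e he)
    rw [show ((⟨e, hez⟩ : ↥(centralizer ({z} : Set G))) : G) = e from rfl, hes] at hconj
    -- the lift fixes the class
    have hwv : w • v = v ∨ w • v = -v := by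
      obtain ⟨r, hr⟩ := D.repr (w • v - v)
      have hdiff : ∃ u : leechLattice, w • v - v = u + u := by
        have h' := D.add hr hv
        rw [sub_add_cancel] at h'
        refine (D.ker hr).1 ?_
        rcases D.unique hconj h' with e' | e'
        · exact Or.inl (mul_eq_right.1 e')
        · right
          rw [D.half.cz s hgQ] at e'
          exact mul_right_cancel e'
      obtain ⟨u, hu⟩ := hdiff
      have h := short_congr_norm (w • v).2 v.2 (by rw [co0_norm]; omega) (by omega)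
        ⟨u, u.2, by rw [← AddSubgroup.coe_sub, hu, two_nsmul]; rfl⟩
      rcases h.2 (by rw [co0_norm]; omega) with e' | e'
      · exact Or.inl (Subtype.ext e'.symm)
      · exact Or.inr (neg_eq_iff_eq_neg.1 (Subtype.ext (by rw [AddSubgroup.coe_neg]; exact e'.symm)))
    obtain ⟨w', hw'v, hw'⟩ : ∃ w' : Co0, w' • v = v ∧ (QuotientGroup.mk w' : Cfsg.Spor.Co1) = π ⟨e, hez⟩ := by
      rcases hwv with e' | e'
      · exact ⟨w, e', hw⟩
      · refine ⟨negAut * w, by rw [mul_smul, e', negAut_smul, neg_neg], ?_⟩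
        rw [QuotientGroup.mk_mul, (QuotientGroup.eq_one_iff _).2 negAut_central, one_mul, hw]
    have hmem : (⟨w', hw'v⟩ : stabilizer Co0 v) ∈ N := ⟨⟨e, hez⟩, ⟨he, hez⟩, hw'.symm⟩
    rw [hbot, mem_bot] at hmem
    have : w' = 1 := congrArg Subtype.val hmem
    rw [this] at hw'
    exact (D.kerπ _).1 (hw'.symm.trans (QuotientGroup.mk_one _))
  have h1 : _ ≤ Nat.card ↥(Q' ⊓ centralizer ({z} : Set G)) := D.card_E hgQ hne
  have h2 : Nat.card ↥(Q ⊓ Q') ≤ _ := D.card_inter_le hgQ hne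
  have h3 := card_le_of_le (show Q' ⊓ centralizer ({z} : Set G) ≤ Q ⊓ Q' from fun e he => ⟨key e he, he.1⟩)
  omega

/-- The conjugates of `z` in `Q` other than `z` lie over classes of squared length 64. -/
theorem long {g : G} (hgQ : g * z * g⁻¹ ∈ Q) (hne : g * z * g⁻¹ ≠ z) :
    ∃ v, R v (g * z * g⁻¹) ∧ sqNorm (v : GolayPt → ℤ) = 64 := by
  obtain ⟨v, hv, hn⟩ := D.norm_cases hgQ (fun e => D.z_ne (by simpa using e)) hne (by
    rw [show g * z * g⁻¹ * (g * z * g⁻¹) = g * (z * z) * g⁻¹ by group, D.zz]; group)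
  exact ⟨v, hv, hn.resolve_left (D.not_short hgQ hne hv)⟩

/-- An element over a class of squared length 64 is conjugate to `z`. -/
theorem conj_of_long (hw : ∃ g : G, g * z * g⁻¹ ∈ Q ∧ g * z * g⁻¹ ≠ z) {v : leechLattice} {q : G} (hq : R v q)
    (hv : sqNorm (v : GolayPt → ℤ) = 64) : IsConj z q ∧ q ≠ z := by
  obtain ⟨g, hgQ, hne⟩ := hw
  obtain ⟨w, hw, hw64⟩ := D.long hgQ hne
  obtain ⟨h, -, hh⟩ := D.orbit hw hq (Or.inr (Or.inr hw64)) (hv.trans hw64.symm)
  refine ⟨isConj_iff.2 ⟨h * g, ?_⟩, (D.noncentral hq (by omega)).2⟩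
  rw [← hh]; group

end Data

/-- The coordinates of a group of Monster type. -/
theorem exists_data' {Q : Subgroup (centralizer ({z} : Set G))} [Q.Normal] (hM : Cfsg.IsOfMonsterType z Q) :
    ∃ (R : leechLattice → G → Prop) (π : ↥(centralizer ({z} : Set G)) →* Cfsg.Spor.Co1),
      Data z (Q.map (centralizer ({z} : Set G)).subtype) R π ∧
      ∃ g : G, g * z * g⁻¹ ∈ Q.map (centralizer ({z} : Set G)).subtype ∧ g * z * g⁻¹ ≠ z := by
  obtain ⟨hS, e, ψ, hψ⟩ := hM
  obtain ⟨R, D, -⟩ := exists_data hS e ψ hψ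
  obtain ⟨-, -, -, -, g, ⟨hq, hm⟩, hne⟩ := hS
  exact ⟨R, _, D, g, mem_map_of_mem _ hm, hne⟩

end CfsgLib.Spor.MonsterType
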