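import Cfsg.Agent.Lib.Spor.Leech.MonsterPlus
import Cfsg.Agent.Lib.Spor.Leech.Stabilizers
import Cfsg.Agent.Lib.Spor.LargeExtraQuotient
import Cfsg.Agent.Lib.Spor.LargeExtraConjCentre
import Cfsg.Agent.Lib.Spor.LargeExtraDuo
import Cfsg.Prelude.Def_MonsterType

/-!
# Groups of Monster type: lattice coordinates on the extraspecial subgroup of order 2^25
-/

set_option autoImplicit false

namespace CfsgLib.Spor.MonsterType

open Subgroup CfsgLib.Spor.Leech
open Cfsg (leechLattice Co0 sqNorm GolayPt)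

variable {G : Type*} [Group G] [Finite G]

/-- The relation between lattice vectors and elements of `Q`, and the map onto the first Conway group. -/
structure Data (z : G) (Q : Subgroup G) (R : leechLattice → G → Prop)
    (π : ↥(centralizer ({z} : Set G)) →* Cfsg.Spor.Co1) : Prop where
  core : LargeQ.Core Q z
  card : Nat.card Q = 2 ^ 25
  repr : ∀ v, ∃ q, R v q
  mem : ∀ {v q}, R v q → q ∈ Q
  short : ∀ q ∈ Q, ∃ v : leechLattice, sqNorm (v : GolayPt → ℤ) ≤ 64 ∧ R v q
  unique : ∀ {v q q'}, R v q → R v q' → q' = q ∨ q' = q * z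
  ker : ∀ {v : leechLattice} {q : G}, R v q → ((q = 1 ∨ q = z) ↔ ∃ w : leechLattice, v = w + w)
  sq : ∀ {v : leechLattice} {q : G}, R v q → (q * q = 1 ↔ ((sqNorm (v : GolayPt → ℤ) / 16 : ℤ) : ZMod 2) = 0)
  conj : ∀ {v : leechLattice} {q : G} (c : ↥(centralizer ({z} : Set G))) {g : Co0}, π c = QuotientGroup.mk g → R v q →
    R (g • v) ((c : G) * q * (c : G)⁻¹)
  add : ∀ {v w : leechLattice} {p q : G}, R v p → R w q → R (v + w) (p * q)
  surj : Function.Surjective π
  kerπ : ∀ c : ↥(centralizer ({z} : Set G)), π c = 1 ↔ (c : G) ∈ Q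

theorem exists_data {z : G} {Q : Subgroup (centralizer ({z} : Set G))} [Q.Normal]
    (hS : Cfsg.IsExtraspecialCentralizerSetting z Q 12) (e : (centralizer ({z} : Set G)) ⧸ Q ≃* Cfsg.Spor.Co1)
    (ψ : leechLattice → Q ⧸ center Q) (hψ : Cfsg.IsLeechModTwoIso Q e ψ) :
    ∃ R : leechLattice → G → Prop,
      Data z (Q.map (centralizer ({z} : Set G)).subtype) R (e.toMonoidHom.comp (QuotientGroup.mk' Q)) ∧
      ∀ (v : leechLattice) (q : ↥(centralizer ({z} : Set G))) (hq : q ∈ Q),
        R v (q : G) ↔ ψ v = QuotientGroup.mk ⟨q, hq⟩ := by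
  classical
  haveI : Fact (Nat.Prime 2) := ⟨Nat.prime_two⟩
  obtain ⟨hz, hF, hQ, hcard, -⟩ := hS
  obtain ⟨hadd, hsurj, hker, hcomp⟩ := hψ
  have hcore : LargeQ.Core (Q.map (centralizer ({z} : Set G)).subtype) z := by
    refine LargeQ.core_of_fitting z hz _ (by rw [hF]) ?_
    exact CfsgLib.Spor.Affine.isExtraspecial_congr (Q.equivMapOfInjective (centralizer ({z} : Set G)).subtype
      (centralizer ({z} : Set G)).subtype_injective) hQ
  obtain ⟨hsc, -⟩ := CfsgLib.PGroup.smallCenter_of_extraspecial (p := 2) hQ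
  let R : leechLattice → G → Prop := fun v x =>
    ∃ (q : Q), ((q : centralizer ({z} : Set G)) : G) = x ∧ ψ v = QuotientGroup.mk q
  have inj : ∀ {p q : Q}, ((p : centralizer ({z} : Set G)) : G) = ((q : centralizer ({z} : Set G)) : G) → p = q :=
    fun h => Subtype.ext (Subtype.ext h)
  have hcen : ∀ q : Q, q ∈ center Q ↔ ((q : centralizer ({z} : Set G)) : G) = 1 ∨
      ((q : centralizer ({z} : Set G)) : G) = z := by
    intro q
    refine Iff.trans ?_ (hcore.center_iff _)
    constructor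
    · intro hq
      refine ⟨⟨_, mem_map_of_mem _ q.2⟩, mem_center_iff.2 fun b => ?_, rfl⟩
      obtain ⟨b, b', hb, rfl⟩ := b
      exact Subtype.ext (congrArg (fun r : Q => ((r : centralizer ({z} : Set G)) : G))
        (mem_center_iff.1 hq ⟨b', hb⟩))
    · rintro ⟨w, hw, e'⟩
      refine mem_center_iff.2 fun b => inj ?_
      have h := congrArg Subtype.val (mem_center_iff.1 hw ⟨_, mem_map_of_mem _ b.2⟩)
      simp only [Subgroup.coe_mul, coe_subtype] at h e' ⊢
      rwa [e'] at h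
  let D : Leech.Plus.Setting Q :=
    { ψ := ψ
      add := hadd
      ker := hker
      card := hsc.card_center
      sq := fun a => by rw [← pow_two]; exact hsc.pow_mem a
      comm := fun a b => by
        have h := hsc.comm_mem a⁻¹ b
        rwa [commutatorElement_def, inv_inv] at h
      inv := fun g => by
        obtain ⟨x, hx⟩ := e.surjective (QuotientGroup.mk g)
        obtain ⟨h, rfl⟩ := QuotientGroup.mk_surjective x
        exact ⟨MulAut.conjNormal h, fun v q hq => hcomp h g hx.symm v q hq⟩ }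
  have hne : ∃ v, D.S v ≠ 0 := by
    by_contra hall
    push Not at hall
    have hsq : ∀ a : Q, a * a = 1 := fun a => by
      obtain ⟨v, hv⟩ := hsurj (QuotientGroup.mk a)
      have h := hall v
      rwa [D.S_eq (q := a) hv, Leech.Plus.χ_eq_zero] at h
    have hab : IsMulCommutative Q := ⟨⟨fun a b => by
      have h := hsq (a * b)
      calc a * b = a * (a * b * (a * b)) * b := by rw [h, mul_one]
        _ = (a * a) * b * a * (b * b) := by group
        _ = b * a := by rw [hsq, hsq, one_mul, mul_one]⟩⟩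
    have : center Q = ⊤ := by
      ext a; simp only [mem_top, iff_true]; exact mem_center_iff.2 fun b => mul_comm' b a
    have hc := hsc.card_center
    rw [this, card_top, hcard] at hc
    norm_num at hc
  have hS : ∀ v, D.S v = ((sqNorm (v : GolayPt → ℤ) / 16 : ℤ) : ZMod 2) := by
    refine quadratic_unique D.S D.S_congr (fun u v w => ?_) D.S_smul hne
    rw [D.S_add (u + v) w, D.S_add u v, D.S_add u w, D.S_add v w, D.B_symm (u + v) w, D.B_add, D.B_symm w u,
      D.B_symm w v]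
    generalize D.S u = a; generalize D.S v = b; generalize D.S w = c
    generalize D.B u v = d; generalize D.B u w = f; generalize D.B v w = k
    revert a b c d f k; decide
  refine ⟨R, ⟨hcore, ?_, ?_, ?_, ?_, ?_, ?_, ?_, ?_, ?_, ?_, ?_⟩, fun v q hq => ⟨?_, fun h => ⟨⟨q, hq⟩, rfl, h⟩⟩⟩
  · rw [← Nat.card_congr (Q.equivMapOfInjective (centralizer ({z} : Set G)).subtype
      (centralizer ({z} : Set G)).subtype_injective).toEquiv, hcard]
  · intro v
    obtain ⟨q, hq⟩ := QuotientGroup.mk_surjective (ψ v)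
    exact ⟨_, q, rfl, hq.symm⟩
  · rintro v _ ⟨q, rfl, -⟩
    exact mem_map_of_mem _ q.2
  · rintro _ ⟨q, hq, rfl⟩
    obtain ⟨v, hv⟩ := hsurj (QuotientGroup.mk ⟨q, hq⟩)
    obtain ⟨y, hy, hyv⟩ := class_surjective v
    obtain ⟨w, hw⟩ := classOf_eq.1 hyv
    refine ⟨y, hy, ⟨q, hq⟩, rfl, ?_⟩
    rw [show y = v + (w + w) by rw [← two_nsmul, ← hw]; abel, hadd, (hker _).2 ⟨w, rfl⟩, mul_one, hv]
  · rintro v _ _ ⟨q, rfl, hq⟩ ⟨q', rfl, hq'⟩
    rcases (hcen _).1 (QuotientGroup.eq.1 (hq.symm.trans hq')) with h | h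
    · left
      simp only [Subgroup.coe_mul, Subgroup.coe_inv] at h
      exact (inv_mul_eq_one.1 h).symm
    · right
      simp only [Subgroup.coe_mul, Subgroup.coe_inv] at h
      exact eq_mul_of_inv_mul_eq h
  · rintro v _ ⟨q, rfl, hq⟩
    rw [← hker, hq, QuotientGroup.eq_one_iff, hcen]
  · rintro v _ ⟨q, rfl, hq⟩
    rw [← hS, D.S_eq hq, Leech.Plus.χ_eq_zero]
    exact ⟨fun h => inj h, fun h => congrArg (fun r : Q => ((r : centralizer ({z} : Set G)) : G)) h⟩
  · rintro v _ c g hg ⟨q, rfl, hq⟩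
    exact ⟨⟨_, (inferInstance : Q.Normal).conj_mem _ q.2 c⟩, rfl, hcomp c g hg.symm v q hq⟩
  · rintro v w _ _ ⟨p, rfl, hp⟩ ⟨q, rfl, hq⟩
    exact ⟨p * q, rfl, by rw [hadd, hp, hq]; rfl⟩
  · exact e.surjective.comp (QuotientGroup.mk'_surjective Q)
  · intro c
    rw [MonoidHom.comp_apply, MulEquiv.coe_toMonoidHom, MulEquiv.map_eq_one_iff, QuotientGroup.mk'_apply,
      QuotientGroup.eq_one_iff]
    exact ⟨fun h => mem_map_of_mem _ h, fun ⟨d, hd, hdc⟩ => by
      rwa [show d = c from Subtype.ext hdc] at hd⟩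
  · rintro ⟨r, hr, h⟩
    rwa [inj (q := ⟨q, hq⟩) hr] at h

end CfsgLib.Spor.MonsterType
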