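import Cfsg.Agent.Lib.Spor.MonsterType.Meet
import Cfsg.Agent.Lib.Spor.Mults.Stem

/-!
# The centralizer of a short involution inside the centralizer of `z`, for groups of Monster type
-/

set_option autoImplicit false

namespace CfsgLib.Spor.MonsterType

open Subgroup CfsgLib.Spor.Leech
open Cfsg (leechLattice Co0 sqNorm GolayPt dotInt)
open MulAction (stabilizer)
open scoped commutatorElement

variable {G : Type*} [Group G] [Finite G] {z : G} {Q : Subgroup G} {R : leechLattice → G → Prop}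
  {π : ↥(centralizer ({z} : Set G)) →* Cfsg.Spor.Co1}

/-- The centralizer of `t` inside that of `z`. -/
abbrev pairCent (z t : G) : Subgroup G := centralizer ({z} : Set G) ⊓ centralizer ({t} : Set G)

/-- The stabiliser of a vector, in the first Conway group. -/
def stabMap (v : leechLattice) : stabilizer Co0 v →* Cfsg.Spor.Co1 :=
  (QuotientGroup.mk' (center Co0)).comp (stabilizer Co0 v).subtype

theorem stabMap_injective {v : leechLattice} (hv : sqNorm (v : GolayPt → ℤ) = 32) :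
    Function.Injective (stabMap v) := (injective_iff_map_eq_one _).2 fun x hx => by
  rcases mem_center_iff_eq.1 ((QuotientGroup.eq_one_iff _).1 hx) with e | e
  · exact Subtype.ext e
  · exfalso
    have h1 : (x : Co0) • v = v := x.2
    rw [show (x : Co0) = negAut from e, negAut_smul] at h1
    have h0 : (v : GolayPt → ℤ) = 0 := funext fun i => by
      have := congrFun (congrArg Subtype.val h1) i
      simp at this
      show (v : GolayPt → ℤ) i = 0
      omega
    rw [h0] at hv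
    simp [sqNorm] at hv

namespace Data

variable (D : Data z Q R π)
include D

theorem exists_lift {v : leechLattice} {t : G} (ht : R v t) (hv : sqNorm (v : GolayPt → ℤ) = 32)
    (c : ↥(centralizer ({z} : Set G))) (hct : (c : G) * t = t * c) : ∃ w, stabMap v w = π c := by
  obtain ⟨w, hw⟩ := QuotientGroup.mk_surjective (π c)
  have h' := D.conj c hw.symm ht
  rw [show (c : G) * t * (c : G)⁻¹ = t from mul_inv_eq_iff_eq_mul.2 hct] at h'
  obtain ⟨u, hu⟩ := D.congr_of_fixed ht h'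
  have h := short_congr_norm (w • v).2 v.2 (by rw [co0_norm]; omega) (by omega)
    ⟨u, u.2, by rw [← AddSubgroup.coe_sub, hu, two_nsmul, add_sub_cancel_left]; rfl⟩
  rcases h.2 (by rw [co0_norm]; omega) with e | e
  · exact ⟨⟨w, Subtype.ext e.symm⟩, hw⟩
  · have e' : w • v = -v := neg_eq_iff_eq_neg.1 (Subtype.ext (by rw [AddSubgroup.coe_neg]; exact e.symm))
    refine ⟨⟨negAut * w, show (negAut * w) • v = v by rw [mul_smul, e', negAut_smul, neg_neg]⟩, ?_⟩
    show QuotientGroup.mk (negAut * w) = π c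
    rw [QuotientGroup.mk_mul, (QuotientGroup.eq_one_iff _).2 negAut_central, one_mul, hw]

/-- The centralizer of `t` maps onto the stabiliser of its class. -/
theorem exists_stabHom {v : leechLattice} {t : G} (ht : R v t) (hv : sqNorm (v : GolayPt → ℤ) = 32) :
    ∃ α : ↥(pairCent z t) →* stabilizer Co0 v, Function.Surjective α ∧
      (∀ c : ↥(pairCent z t), stabMap v (α c) = π ⟨c, c.2.1⟩) ∧
      ∀ c : ↥(pairCent z t), α c = 1 ↔ (c : G) ∈ Q := by
  choose f hf using fun c : ↥(pairCent z t) =>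
    D.exists_lift ht hv ⟨c, c.2.1⟩ (mem_centralizer_singleton_iff.1 c.2.2)
  have hinj := stabMap_injective hv
  let α : ↥(pairCent z t) →* stabilizer Co0 v := MonoidHom.mk' f fun a b => hinj (by
    rw [map_mul, hf, hf, hf, ← map_mul]; rfl)
  refine ⟨α, fun w => ?_, hf, fun c => ?_⟩
  · obtain ⟨c, hc, hct⟩ := D.transport ht ht (D.noncentral ht (by omega)) (show (w : Co0) • v = v from w.2)
    exact ⟨⟨c, c.2, mem_centralizer_singleton_iff.2 (mul_inv_eq_iff_eq_mul.1 hct)⟩,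
      hinj ((hf _).trans hc)⟩
  · rw [← hinj.eq_iff, map_one]
    show stabMap v (f c) = 1 ↔ _
    rw [hf, D.kerπ]

/-- The index two subgroup of `Q` centralising `t`. -/
theorem card_P {v : leechLattice} {t : G} (ht : R v t) (hv : sqNorm (v : GolayPt → ℤ) = 32) :
    Nat.card ↥(Q ⊓ centralizer ({t} : Set G)) = 2 ^ 24 := by
  classical
  obtain ⟨htn1, htn2⟩ := D.noncentral ht (by omega)
  have htQ := D.mem ht
  obtain ⟨y, hy, hyt⟩ := D.move htQ htn1 htn2
  set P := Q ⊓ centralizer ({t} : Set G) with hP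
  have hstep : ∀ x ∈ Q, ¬ x * t = t * x → (y⁻¹ * x) * t = t * (y⁻¹ * x) := by
    intro x hx hxt
    have e : x * t * x⁻¹ = t * z := by
      rcases D.half.comm x hx t htQ with e | e
      · exact absurd (mul_inv_eq_iff_eq_mul.1 (mul_inv_eq_one.1 e)) hxt
      · rw [mul_inv_eq_iff_eq_mul.1 e, D.half.cz t htQ]
    calc y⁻¹ * x * t = y⁻¹ * (x * t * x⁻¹) * x := by group
      _ = y⁻¹ * (y * t * y⁻¹) * x := by rw [e, hyt]
      _ = _ := by group
  let f : ↥Q → Fin 2 × ↥P := fun x =>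
    if hx : (x : G) * t = t * x then (0, ⟨x, x.2, mem_centralizer_singleton_iff.2 hx⟩)
    else (1, ⟨y⁻¹ * x, Subgroup.mul_mem Q (Subgroup.inv_mem Q hy) x.2,
      mem_centralizer_singleton_iff.2 (hstep x x.2 hx)⟩)
  have hf : Function.Injective f := by
    intro a b hab
    simp only [f] at hab
    split_ifs at hab with h1 h2 h3
    · exact Subtype.ext (congrArg (fun p : Fin 2 × ↥P => (p.2 : G)) hab)
    · exact absurd (congrArg Prod.fst hab) (by simp)
    · exact absurd (congrArg Prod.fst hab) (by simp)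
    · exact Subtype.ext (mul_left_cancel (congrArg (fun p : Fin 2 × ↥P => (p.2 : G)) hab))
  have h1 := Nat.card_le_card_of_injective f hf
  rw [Nat.card_prod, Nat.card_fin, D.card] at h1
  have h2 : P ≠ Q := fun e => by
    have h3 : y ∈ P := e.symm ▸ hy
    rw [mul_inv_eq_iff_eq_mul.2 (mem_centralizer_singleton_iff.1 h3.2)] at hyt
    exact D.z_ne (left_eq_mul.1 hyt)
  obtain ⟨k, hk, hkc⟩ := (Nat.dvd_prime_pow Nat.prime_two).1 (D.card ▸ card_dvd_of_le (inf_le_left : P ≤ Q))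
  rw [hkc] at h1
  have h24 : 24 ≤ k := by
    by_contra hlt
    have : 2 ^ k ≤ 2 ^ 23 := Nat.pow_le_pow_right (by norm_num) (by omega)
    omega
  have hne : k ≠ 25 := fun e => h2 (eq_of_le_of_card_ge inf_le_left (by rw [D.card, hkc, e]))
  rw [hkc, show k = 24 by omega]

/-- Only `Q` centralises `C_Q(t)` modulo the four-group. -/
theorem cent_section {v : leechLattice} {t : G} (ht : R v t) (hv : sqNorm (v : GolayPt → ℤ) = 32)
    (htt : t * t = 1) (c : G) (hc : c ∈ centralizer ({z} : Set G)) :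
    (∀ x ∈ Q ⊓ centralizer ({t} : Set G), ∃ y ∈ closure ({t, z} : Set G), c * x * c⁻¹ = x * y) ↔ c ∈ Q := by
  classical
  haveI : IsSimpleGroup (stabilizer Co0 v) := (isCo2_stabilizer hv).1
  obtain ⟨htn1, htn2⟩ := D.noncentral ht (by omega)
  have htQ := D.mem ht
  set P := Q ⊓ centralizer ({t} : Set G) with hP
  have htP : t ∈ P := ⟨htQ, mem_centralizer_singleton_iff.2 rfl⟩
  set W := closure ({t, z} : Set G) with hW
  have hzW : z ∈ W := subset_closure (Set.mem_insert_of_mem _ rfl)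
  have hWQ : W ≤ Q := (closure_le _).2 fun a ha => ha.elim (fun e => e ▸ htQ) fun e => e ▸ D.core.mem
  have hWcases : ∀ a ∈ W, a = 1 ∨ a = z ∨ a = t ∨ a = z * t := by
    intro a ha
    have htz := D.half.cz t htQ
    refine closure_induction (p := fun a _ => a = 1 ∨ a = z ∨ a = t ∨ a = z * t) ?_ (Or.inl rfl) ?_ ?_ ha
    · rintro a (rfl | rfl) <;> simp
    · intro a b _ _ h h'
      have e1 : t * (z * t) = z := by rw [← mul_assoc, htz, mul_assoc, htt, mul_one]
      have e2 : z * t * t = z := by rw [mul_assoc, htt, mul_one]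
      have e3 : z * t * z = t := by rw [mul_assoc, htz, ← mul_assoc, D.zz, one_mul]
      have e4 : z * (z * t) = t := by rw [← mul_assoc, D.zz, one_mul]
      have e5 : z * t * (z * t) = 1 := by rw [← mul_assoc, e3, htt]
      rcases h with rfl | rfl | rfl | rfl <;> rcases h' with rfl | rfl | rfl | rfl <;>
        simp [D.zz, htt, htz, e1, e2, e3, e4, e5]
    · intro a _ h
      rcases h with rfl | rfl | rfl | rfl
      · simp
      · rw [inv_eq_of_mul_eq_one_right D.zz]; simp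
      · rw [inv_eq_of_mul_eq_one_right htt]; simp
      · rw [mul_inv_rev, inv_eq_of_mul_eq_one_right D.zz, inv_eq_of_mul_eq_one_right htt, htz]; simp
  constructor
  swap
  · intro hcQ x hx
    rcases D.half.comm c hcQ x hx.1 with e | e
    · exact ⟨1, one_mem _, by rw [mul_one]; exact mul_inv_eq_one.1 e⟩
    · exact ⟨z, hzW, (mul_inv_eq_iff_eq_mul.1 e).trans (D.half.cz x hx.1).symm⟩
  intro hall
  obtain ⟨α, hα, -, hker⟩ := D.exists_stabHom ht hv
  -- elements fixing the section form a normal subgroup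
  have hWfix : ∀ d ∈ pairCent z t, ∀ u ∈ W, d * u * d⁻¹ = u := by
    intro d hd u hu
    have h1 : d * z * d⁻¹ = z := mul_inv_eq_iff_eq_mul.2 (mem_centralizer_singleton_iff.1 hd.1)
    have h2 : d * t * d⁻¹ = t := mul_inv_eq_iff_eq_mul.2 (mem_centralizer_singleton_iff.1 hd.2)
    rcases hWcases u hu with rfl | rfl | rfl | rfl
    · group
    · exact h1
    · exact h2
    · rw [show d * (z * t) * d⁻¹ = d * z * d⁻¹ * (d * t * d⁻¹) by group, h1, h2]
  have hWP : ∀ u ∈ W, ∀ x ∈ P, u * x = x * u := by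
    intro u hu x hx
    have h1 := D.half.cz x hx.1
    have h2 := mem_centralizer_singleton_iff.1 hx.2
    rcases hWcases u hu with rfl | rfl | rfl | rfl
    · simp
    · exact h1.symm
    · exact h2.symm
    · rw [mul_assoc, ← h2, ← mul_assoc, ← h1, mul_assoc]
  have hPconj : ∀ d ∈ pairCent z t, ∀ x ∈ P, d * x * d⁻¹ ∈ P := fun d hd x hx =>
    ⟨D.half.norm d (mem_centralizer_singleton_iff.1 hd.1) x hx.1,
      Subgroup.mul_mem _ (Subgroup.mul_mem _ hd.2 hx.2) (Subgroup.inv_mem _ hd.2)⟩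
  let K : Subgroup ↥(pairCent z t) :=
    { carrier := {d | ∀ x ∈ P, ∃ u ∈ W, (d : G) * x * (d : G)⁻¹ = x * u}
      one_mem' := fun x _ => ⟨1, one_mem _, by simp⟩
      mul_mem' := by
        intro a b ha hb x hx
        obtain ⟨u, hu, eu⟩ := hb x hx
        obtain ⟨u', hu', eu'⟩ := ha x hx
        refine ⟨u' * u, mul_mem hu' hu, ?_⟩
        show (a : G) * b * x * ((a : G) * b)⁻¹ = _
        rw [show (a : G) * b * x * ((a : G) * b)⁻¹ = (a : G) * ((b : G) * x * (b : G)⁻¹) * (a : G)⁻¹ by group, eu,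
          show (a : G) * (x * u) * (a : G)⁻¹ = ((a : G) * x * (a : G)⁻¹) * ((a : G) * u * (a : G)⁻¹) by group, eu',
          hWfix a a.2 u hu, mul_assoc]
      inv_mem' := by
        intro a ha x hx
        obtain ⟨u, hu, eu⟩ := ha x hx
        refine ⟨u⁻¹, inv_mem hu, ?_⟩
        show (a : G)⁻¹ * x * (a : G)⁻¹⁻¹ = _
        have h1 := hWfix a a.2 u⁻¹ (inv_mem hu)
        calc (a : G)⁻¹ * x * (a : G)⁻¹⁻¹
            = (a : G)⁻¹ * ((x * u) * u⁻¹) * a := by group
          _ = (a : G)⁻¹ * (((a : G) * x * (a : G)⁻¹) * ((a : G) * u⁻¹ * (a : G)⁻¹)) * a := by rw [h1, eu]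
          _ = _ := by group }
  haveI hKn : K.Normal := ⟨by
    intro n hn d x hx
    have hx' := hPconj _ (inv_mem d.2) x hx
    rw [inv_inv] at hx'
    obtain ⟨u, hu, eu⟩ := hn _ hx'
    refine ⟨u, hu, ?_⟩
    show (d : G) * n * (d : G)⁻¹ * x * ((d : G) * n * (d : G)⁻¹)⁻¹ = x * u
    rw [show (d : G) * n * (d : G)⁻¹ * x * ((d : G) * n * (d : G)⁻¹)⁻¹
      = (d : G) * ((n : G) * ((d : G)⁻¹ * x * d) * (n : G)⁻¹) * (d : G)⁻¹ by group, eu,
      show (d : G) * ((d : G)⁻¹ * x * d * u) * (d : G)⁻¹ = x * ((d : G) * u * (d : G)⁻¹) by group, hWfix d d.2 u hu]⟩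
  -- the derived subgroup centralises the section
  have hK1 : ∀ d ∈ ⁅K, K⁆, ∀ x ∈ P, (d : G) * x = x * d := by
    intro d hd
    have hle : ⁅K, K⁆ ≤ (centralizer (P : Set G)).subgroupOf (pairCent z t) := by
      refine commutator_le.2 fun a ha b hb => mem_subgroupOf.2 (mem_centralizer_iff.2 fun x hx => ?_)
      have hfix : ∀ p q : G, p * x * p⁻¹ = q * x * q⁻¹ → (q⁻¹ * p) * x = x * (q⁻¹ * p) := fun p q e => by
        calc q⁻¹ * p * x = q⁻¹ * (p * x * p⁻¹) * p := by group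
          _ = q⁻¹ * (q * x * q⁻¹) * p := by rw [e]
          _ = _ := by group
      obtain ⟨u₁, hu₁, eu₁⟩ := K.inv_mem ha x hx
      obtain ⟨u₂, hu₂, eu₂⟩ := K.inv_mem hb x hx
      have hab' : (a : G)⁻¹ * (b : G)⁻¹ * x * ((a : G)⁻¹ * (b : G)⁻¹)⁻¹ =
          (b : G)⁻¹ * (a : G)⁻¹ * x * ((b : G)⁻¹ * (a : G)⁻¹)⁻¹ := by
        have eu₁' : (a : G)⁻¹ * x * (a : G)⁻¹⁻¹ = x * u₁ := eu₁
        have eu₂' : (b : G)⁻¹ * x * (b : G)⁻¹⁻¹ = x * u₂ := eu₂
        rw [show (a : G)⁻¹ * (b : G)⁻¹ * x * ((a : G)⁻¹ * (b : G)⁻¹)⁻¹ =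
            (a : G)⁻¹ * ((b : G)⁻¹ * x * (b : G)⁻¹⁻¹) * (a : G)⁻¹⁻¹ by group, eu₂',
          show (a : G)⁻¹ * (x * u₂) * (a : G)⁻¹⁻¹ = ((a : G)⁻¹ * x * (a : G)⁻¹⁻¹) * ((a : G)⁻¹ * u₂ * (a : G)⁻¹⁻¹) by group,
          eu₁', hWfix _ (inv_mem a.2) u₂ hu₂,
          show (b : G)⁻¹ * (a : G)⁻¹ * x * ((b : G)⁻¹ * (a : G)⁻¹)⁻¹ =
            (b : G)⁻¹ * ((a : G)⁻¹ * x * (a : G)⁻¹⁻¹) * (b : G)⁻¹⁻¹ by group, eu₁',
          show (b : G)⁻¹ * (x * u₁) * (b : G)⁻¹⁻¹ = ((b : G)⁻¹ * x * (b : G)⁻¹⁻¹) * ((b : G)⁻¹ * u₁ * (b : G)⁻¹⁻¹) by group,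
          eu₂', hWfix _ (inv_mem b.2) u₁ hu₁, mul_assoc, mul_assoc]
        congr 1
        exact hWP u₁ hu₁ u₂ ⟨hWQ hu₂, mem_centralizer_singleton_iff.2 (hWP u₂ hu₂ t htP)⟩
      have := hfix _ _ hab'
      rw [show ((b : G)⁻¹ * (a : G)⁻¹)⁻¹ * ((a : G)⁻¹ * (b : G)⁻¹) = (a : G) * b * (a : G)⁻¹ * (b : G)⁻¹ by group] at this
      rw [commutatorElement_def]
      exact this.symm
    intro x hx
    exact ((mem_centralizer_iff.1 (mem_subgroupOf.1 (hle hd))) x hx).symm
  -- the second derived subgroup centralises `Q`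
  have hK2 : ⁅⁅K, K⁆, ⁅K, K⁆⁆ ≤ α.ker := by
    obtain ⟨y, hy, hyt⟩ := D.move htQ htn1 htn2
    have hdy : ∀ d ∈ ⁅K, K⁆, ∃ u ∈ W, (d : G) * y * (d : G)⁻¹ = y * u := by
      intro d hd
      have hpQ : y⁻¹ * ((d : G) * y * (d : G)⁻¹) ∈ Q :=
        Subgroup.mul_mem Q (Subgroup.inv_mem Q hy) (D.half.norm _ (mem_centralizer_singleton_iff.1 d.2.1) y hy)
      refine ⟨y⁻¹ * ((d : G) * y * (d : G)⁻¹), ?_, by group⟩
      have hcomm : ∀ r ∈ Q, r * t = t * r → r * (y⁻¹ * ((d : G) * y * (d : G)⁻¹)) =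
          y⁻¹ * ((d : G) * y * (d : G)⁻¹) * r := by
        intro r hr hrt
        have hrP : r ∈ P := ⟨hr, mem_centralizer_singleton_iff.2 hrt⟩
        have hyr : y * r * y⁻¹ ∈ P := by
          rcases D.half.comm y hy r hr with e | e
          · rw [mul_inv_eq_one.1 e]; exact hrP
          · rw [mul_inv_eq_iff_eq_mul.1 e]
            exact Subgroup.mul_mem P ⟨D.core.mem, mem_centralizer_singleton_iff.2 (D.half.cz t htQ).symm⟩ hrP
        have h1 := hK1 d hd r hrP
        have h2 := hK1 d hd _ hyr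
        calc r * (y⁻¹ * ((d : G) * y * (d : G)⁻¹)) = y⁻¹ * ((y * r * y⁻¹) * (d : G)) * y * (d : G)⁻¹ := by group
          _ = y⁻¹ * ((d : G) * (y * r * y⁻¹)) * y * (d : G)⁻¹ := by rw [← h2]
          _ = y⁻¹ * (d : G) * y * (r * (d : G)⁻¹) := by group
          _ = y⁻¹ * (d : G) * y * ((d : G)⁻¹ * r) := by
            congr 1
            calc r * (d : G)⁻¹ = (d : G)⁻¹ * ((d : G) * r) * (d : G)⁻¹ := by group
              _ = (d : G)⁻¹ * (r * d) * (d : G)⁻¹ := by rw [h1]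
              _ = _ := by group
          _ = _ := by group
      rcases D.core.double_centralizer htQ ⟨htn1, htn2⟩ hpQ hcomm with e | e | e | e <;> rw [e]
      exacts [one_mem _, hzW, subset_closure (Set.mem_insert _ _), mul_mem hzW (subset_closure (Set.mem_insert _ _))]
    refine commutator_le.2 fun a ha b hb => ?_
    rw [MonoidHom.mem_ker, hker]
    have hab : ((⁅a, b⁆ : ↥(pairCent z t)) : G) ∈ centralizer (Q : Set G) := by
      have hcy : ((⁅a, b⁆ : ↥(pairCent z t)) : G) * y = y * ((⁅a, b⁆ : ↥(pairCent z t)) : G) := by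
        obtain ⟨u, hu, eu⟩ := hdy a⁻¹ (inv_mem ha)
        obtain ⟨u', hu', eu'⟩ := hdy b⁻¹ (inv_mem hb)
        have eu₁ : (a : G)⁻¹ * y * (a : G)⁻¹⁻¹ = y * u := eu
        have eu₂ : (b : G)⁻¹ * y * (b : G)⁻¹⁻¹ = y * u' := eu'
        have hab' : (a : G)⁻¹ * (b : G)⁻¹ * y * ((a : G)⁻¹ * (b : G)⁻¹)⁻¹ =
            (b : G)⁻¹ * (a : G)⁻¹ * y * ((b : G)⁻¹ * (a : G)⁻¹)⁻¹ := by
          rw [show (a : G)⁻¹ * (b : G)⁻¹ * y * ((a : G)⁻¹ * (b : G)⁻¹)⁻¹ =
              (a : G)⁻¹ * ((b : G)⁻¹ * y * (b : G)⁻¹⁻¹) * (a : G)⁻¹⁻¹ by group, eu₂,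
            show (a : G)⁻¹ * (y * u') * (a : G)⁻¹⁻¹ = ((a : G)⁻¹ * y * (a : G)⁻¹⁻¹) * ((a : G)⁻¹ * u' * (a : G)⁻¹⁻¹) by group,
            eu₁, hWfix _ (inv_mem a.2) u' hu',
            show (b : G)⁻¹ * (a : G)⁻¹ * y * ((b : G)⁻¹ * (a : G)⁻¹)⁻¹ =
              (b : G)⁻¹ * ((a : G)⁻¹ * y * (a : G)⁻¹⁻¹) * (b : G)⁻¹⁻¹ by group, eu₁,
            show (b : G)⁻¹ * (y * u) * (b : G)⁻¹⁻¹ = ((b : G)⁻¹ * y * (b : G)⁻¹⁻¹) * ((b : G)⁻¹ * u * (b : G)⁻¹⁻¹) by group,
            eu₂, hWfix _ (inv_mem b.2) u hu, mul_assoc, mul_assoc]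
          congr 1
          exact hWP u hu u' ⟨hWQ hu', mem_centralizer_singleton_iff.2 (hWP u' hu' t htP)⟩
        rw [commutatorElement_def]
        show (a : G) * b * (a : G)⁻¹ * (b : G)⁻¹ * y = y * ((a : G) * b * (a : G)⁻¹ * (b : G)⁻¹)
        calc (a : G) * b * (a : G)⁻¹ * (b : G)⁻¹ * y
            = (a : G) * b * ((a : G)⁻¹ * (b : G)⁻¹ * y * ((a : G)⁻¹ * (b : G)⁻¹)⁻¹) * ((a : G)⁻¹ * (b : G)⁻¹) := by group
          _ = _ := by rw [hab']; group
      have hcP : ∀ x ∈ P, ((⁅a, b⁆ : ↥(pairCent z t)) : G) * x = x * ((⁅a, b⁆ : ↥(pairCent z t)) : G) :=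
        fun x hx => hK1 _ (mul_mem (mul_mem (mul_mem ha hb) (inv_mem ha)) (inv_mem hb)) x hx
      refine mem_centralizer_iff.2 fun q hq => ?_
      by_cases hqt : q * t = t * q
      · exact (hcP q ⟨hq, mem_centralizer_singleton_iff.2 hqt⟩).symm
      · have hq' : y⁻¹ * q ∈ P := by
          refine ⟨Subgroup.mul_mem Q (Subgroup.inv_mem Q hy) hq, mem_centralizer_singleton_iff.2 ?_⟩
          rcases D.half.comm q hq t htQ with e | e
          · exact absurd (mul_inv_eq_iff_eq_mul.1 (mul_inv_eq_one.1 e)) hqt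
          · have e' : q * t * q⁻¹ = t * z := by rw [mul_inv_eq_iff_eq_mul.1 e, D.half.cz t htQ]
            calc y⁻¹ * q * t = y⁻¹ * (q * t * q⁻¹) * q := by group
              _ = y⁻¹ * (y * t * y⁻¹) * q := by rw [e', hyt]
              _ = _ := by group
        have h1 := hcP _ hq'
        calc q * ((⁅a, b⁆ : ↥(pairCent z t)) : G) = y * ((y⁻¹ * q) * ((⁅a, b⁆ : ↥(pairCent z t)) : G)) := by group
          _ = (y * ((⁅a, b⁆ : ↥(pairCent z t)) : G)) * (y⁻¹ * q) := by rw [← h1]; group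
          _ = _ := by rw [← hcy]; group
    rcases D.half.cent _ fun q hq => mem_centralizer_iff.1 hab q hq with e | e <;> rw [e]
    exacts [one_mem _, D.core.mem]
  -- hence the image is trivial
  have hbot : K.map α = ⊥ := by
    rcases Subgroup.Normal.eq_bot_or_eq_top (hKn.map α hα) with h | h
    · exact h
    · exfalso
      have hperf : commutator (stabilizer Co0 v) = ⊤ := by
        refine CfsgLib.Spor.Mults.commutator_eq_top_of_simple ?_
        by_contra hab
        push Not at hab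
        haveI : IsSimpleGroup (stabilizer Co0 v) := (isCo2_stabilizer hv).1
        letI : CommGroup (stabilizer Co0 v) := { (inferInstance : Group (stabilizer Co0 v)) with mul_comm := hab }
        have hp := IsSimpleGroup.prime_card (α := stabilizer Co0 v)
        rw [card_stab32 hv] at hp
        exact absurd hp (by norm_num)
      rw [_root_.commutator_def] at hperf
      have h2 := map_mono (f := α) hK2
      rw [Subgroup.map_commutator, Subgroup.map_commutator, h, hperf, hperf] at h2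
      have h3 : (α.ker.map α) = ⊥ := (Subgroup.map_eq_bot_iff _).2 le_rfl
      rw [h3, top_le_iff] at h2
      exact bot_ne_top h2
  have main : ∀ d : ↥(pairCent z t), d ∈ K → (d : G) ∈ Q := fun d hd => (hker d).1 (by
    have := mem_map_of_mem α hd
    rwa [hbot, mem_bot] at this)
  -- moving into the centralizer of `t`
  obtain ⟨u, hu, eu⟩ := hall t htP
  have hctq : c * t * c⁻¹ = t ∨ c * t * c⁻¹ = t * z := by
    rcases hWcases u hu with rfl | rfl | rfl | rfl
    · left; rw [eu, mul_one]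
    · right; exact eu
    · exfalso
      rw [htt, mul_inv_eq_one, mul_eq_left] at eu
      exact htn1 eu
    · exfalso
      rw [show t * (z * t) = z by rw [← mul_assoc, D.half.cz t htQ, mul_assoc, htt, mul_one]] at eu
      refine htn2 ?_
      calc t = c⁻¹ * (c * t * c⁻¹) * c := by group
        _ = c⁻¹ * (z * c) := by rw [eu, mul_assoc]
        _ = c⁻¹ * (c * z) := by rw [mem_centralizer_singleton_iff.1 hc]
        _ = z := by group
  rcases hctq with e | e
  · exact main ⟨c, hc, mem_centralizer_singleton_iff.2 (mul_inv_eq_iff_eq_mul.1 e)⟩ hall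
  · obtain ⟨y, hy, hyt⟩ := D.move htQ htn1 htn2
    have e' : (y * c) * t * (y * c)⁻¹ = t := by
      rw [show y * c * t * (y * c)⁻¹ = y * (c * t * c⁻¹) * y⁻¹ by group, e,
        show y * (t * z) * y⁻¹ = (y * t * y⁻¹) * (y * z * y⁻¹) by group, hyt, D.half.cz y hy, mul_inv_cancel_right,
        mul_assoc, D.zz, mul_one]
    have hm := main ⟨y * c, Subgroup.mul_mem _ (D.core.le hy) hc,
      mem_centralizer_singleton_iff.2 (mul_inv_eq_iff_eq_mul.1 e')⟩ (fun x hx => by
        obtain ⟨w, hw, ew⟩ := hall x hx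
        show ∃ w' ∈ W, y * c * x * (y * c)⁻¹ = x * w'
        have hxw : x * w ∈ Q := Subgroup.mul_mem Q hx.1 (hWQ hw)
        rw [show y * c * x * (y * c)⁻¹ = y * (c * x * c⁻¹) * y⁻¹ by group, ew]
        rcases D.half.comm y hy _ hxw with e2 | e2
        · exact ⟨w, hw, mul_inv_eq_one.1 e2⟩
        · refine ⟨w * z, mul_mem hw hzW, ?_⟩
          rw [mul_inv_eq_iff_eq_mul.1 e2, ← D.half.cz _ hxw, mul_assoc])
    have := Subgroup.mul_mem Q (Subgroup.inv_mem Q hy) hm
    rwa [inv_mul_cancel_left] at this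

end Data

end CfsgLib.Spor.MonsterType
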